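import Groth.Agent.ArtinQuot.Main
import Groth.Agent.AlgGrp1.QuotGrp
import Groth.Agent.FppfSmooth.Basic
import Groth.Agent.FlatMor2.FlatComp
import Groth.Agent.GitQuot.FppfSourceScheme
import Groth.Agent.FlatMor2.Thickening

/-!
Over a local artinian ring: quotient schemes by flat closed subgroups, quotient groups.
-/

set_option autoImplicit false
set_option linter.style.haveILetI false
set_option backward.isDefEq.respectTransparency.types false

universe u

open CategoryTheory MonoidalCategory CartesianMonoidalCategory MonObj GrpObj AlgebraicGeometry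
  CategoryTheory.Limits TopologicalSpace AlgSp Groth.AlgSpBasic

namespace Groth.ArtinQuot

variable {A : Type u} [CommRing A] [IsArtinianRing A] [IsLocalRing A]
  {F G : Over (Spec (CommRingCat.of A))} [GrpObj F] [GrpObj G] [LocallyOfFiniteType G.hom]
  (u : F ⟶ G) [IsMonHom u]

/-- The quotient by a flat closed subgroup is a separated scheme. -/
theorem exists_scheme_quot [Flat F.hom] [IsClosedImmersion u.left] :
    ∃ (X : Over (Spec (CommRingCat.of A))) (p : G ⟶ X), IsSeparated X.hom ∧
      LocallyOfFiniteType X.hom ∧ Surjective p.left ∧ Flat p.left ∧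
      LocallyOfFinitePresentation p.left ∧ IsPullback (trl u) (snd F G) p p := by
  haveI : LocallyOfFiniteType F.hom := by rw [← Over.w u]; infer_instance
  haveI := Over.mono_of_mono_left u
  obtain ⟨X, π, hX, hls, sq, hf, hl, hs, hsep⟩ := exists_quot u
  have hsep := hsep ‹_›
  have hqs : IsQuasiSeparatedSp X :=
    repWith_mono (P := @IsClosedImmersion) (Q := @QuasiCompact) (fun _ _ φ (h : IsClosedImmersion φ) => inferInstance) hsep
  -- the special fibre
  haveI := isClosedImmersion_kap A
  haveI := surjective_kap A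
  let Y : Sp (Spec (CommRingCat.of A)) := X ⨯ (yon (Spec (CommRingCat.of A))).obj (Kap A)
  let i : Y ⟶ X := Limits.prod.fst
  have hi : IsThickMor i := repWith_of_exists fun T g =>
    ⟨T ⊗ Kap A, prodK g (Kap A), fst T (Kap A), (isPullback_prodK g (Kap A)).flip,
      ⟨MorphismProperty.of_isPullback (IsPullback.of_hasPullback T.hom (Kap A).hom).flip
          (inferInstanceAs (IsClosedImmersion (Kap A).hom)),
        MorphismProperty.of_isPullback (IsPullback.of_hasPullback T.hom (Kap A).hom).flip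
          (inferInstanceAs (Surjective (Kap A).hom))⟩⟩
  have hY : IsAlgSpace Y := isAlgSpace_of_representable hX i hi.rep
  have hπK : RepWith @Surjective (prodK π (Kap A)) := repWith_of_isPullback (isPullback_prodK π (Kap A)) hs
  have hsch : ∀ y, IsSchematicPt Y y := by
    intro y
    obtain ⟨g, rfl⟩ := surjective_ofPt_of_repWith hπK y
    haveI := lft_snd G (Kap A)
    have : JacobsonSpace (G ⊗ Kap A).left :=
      LocallyOfFiniteType.jacobsonSpace (X := (G ⊗ Kap A).left)
        (Y := Spec (CommRingCat.of (IsLocalRing.ResidueField A))) (snd G (Kap A)).left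
    have hC : IsClosed {g | IsSchematicPt Y (AlgSp.Points.ofPt (prodK π (Kap A)) g)}ᶜ :=
      ((isOpen_schematicPt Y).preimage (AlgSp.Points.continuous_ofPt _)).isClosed_compl
    by_contra hy
    obtain ⟨g₀, hg₀, hg₀c⟩ := nonempty_inter_closedPoints
      (Z := {g | IsSchematicPt Y (AlgSp.Points.ofPt (prodK π (Kap A)) g)}ᶜ) ⟨g, hy⟩ hC.isLocallyClosed
    exact hg₀ (isSchematicPt_kap u sq hX hqs hf hl hs hg₀c)
  obtain ⟨T, ⟨e⟩⟩ := exists_iso_of_representable ⟨Y, hY⟩ (isRepresentable_of_schematic ⟨Y, hY⟩ hsch)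
  obtain ⟨Q, ⟨eQ⟩⟩ := Groth.AlgSpThick.exists_iso_yon_of_thick hX (i := e.hom ≫ i)
    (repWith_inf_iff.2 ⟨repWith_comp (repWith_isIso e.hom) (repWith_inf_iff.1 hi).1,
      repWith_comp (repWith_isIso e.hom) (repWith_inf_iff.1 hi).2⟩)
  obtain ⟨p, hp⟩ := (yon (Spec (CommRingCat.of A))).map_surjective (π ≫ eQ.inv)
  have hprop : ∀ (P : MorphismProperty Scheme.{u}) [P.IsStableUnderBaseChange], RepWith P π → P p.left := by
    intro P _ h
    refine (repWith_yon_map_iff P p).1 ?_
    rw [hp]
    haveI : P.RespectsIso := MorphismProperty.IsStableUnderBaseChange.respectsIso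
    exact (MorphismProperty.cancel_right_of_respectsIso (RepWith P) π eQ.inv).2 h
  haveI hps : Surjective p.left := hprop _ hs
  haveI hpf : Flat p.left := hprop _ hf
  haveI hpl : LocallyOfFinitePresentation p.left := hprop _ hl
  have hsq : IsPullback (trl u) (snd F G) p p := by
    refine IsPullback.of_map (yon (Spec (CommRingCat.of A))) ((yon (Spec (CommRingCat.of A))).map_injective ?_) ?_
    · rw [Functor.map_comp, Functor.map_comp, hp, ← Category.assoc, ← Category.assoc, sq.w]
    · rw [hp]
      exact IsPullback.of_iso sq (Iso.refl _) (Iso.refl _) (Iso.refl _) eQ.symm (by simp) (by simp)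
        (by simp) (by simp)
  refine ⟨Q, p, ?_, ?_, hps, hpf, hpl, hsq⟩
  · have h : RepWith @IsClosedImmersion (Limits.diag ((yon (Spec (CommRingCat.of A))).obj Q)) := by
      have e' : Limits.diag ((yon (Spec (CommRingCat.of A))).obj Q) = eQ.hom ≫ Limits.diag X ≫ prod.map eQ.inv eQ.inv := by
        ext <;> simp
      rw [e']
      exact MorphismProperty.RespectsIso.precomp _ _ _
        (MorphismProperty.RespectsIso.postcomp _ _ _ hsep)
    exact ⟨(repWith_diag_yon_iff _ Q).1 h⟩
  · haveI : LocallyOfFinitePresentation (p.left ≫ Q.hom) := by rw [Over.w]; infer_instance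
    haveI := Groth.GitQuot.FppfSource.locallyOfFinitePresentation_of_fppf p.left Q.hom
    infer_instance

omit [GrpObj F] [GrpObj G] [LocallyOfFiniteType G.hom] in
theorem flat_target {X : Over (Spec (CommRingCat.of A))} (p : G ⟶ X) [Flat p.left] [Surjective p.left]
    (hG : Flat G.hom) : Flat X.hom := by
  haveI : Flat (p.left ≫ X.hom) := by rw [Over.w]; exact hG
  exact Groth.FlatMor2.flat_of_comp_surjective p.left X.hom

omit [GrpObj F] [GrpObj G] [LocallyOfFiniteType G.hom] in
theorem smooth_target {X : Over (Spec (CommRingCat.of A))} (p : G ⟶ X) [Flat p.left] [Surjective p.left]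
    [LocallyOfFinitePresentation p.left] (hG : Smooth G.hom) : Smooth X.hom := by
  haveI : Smooth (p.left ≫ X.hom) := by rw [Over.w]; exact hG
  exact Groth.FppfSmooth.smooth_of_fppf p.left X.hom

omit [IsArtinianRing A] [IsLocalRing A] [LocallyOfFiniteType G.hom] in
/-- The quotient by a normal subgroup is a group. -/
theorem exists_group_of_quot (hN : AlgGrp.IsNormalHom u) [Mono u] {X : Over (Spec (CommRingCat.of A))}
    (p : G ⟶ X) [Flat p.left] [Surjective p.left] [LocallyOfFinitePresentation p.left]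
    (hsq : IsPullback (trl u) (snd F G) p p) :
    ∃ _ : GrpObj X, IsMonHom p ∧ AlgGrp.IsKernel u p := by
  have hp : ∀ (T : Over (Spec (CommRingCat.of A))) (a b : T ⟶ G),
      a ≫ p = b ≫ p ↔ ∃ n : T ⟶ F, b = a * (n ≫ u) := by
    intro T a b
    constructor
    · intro h
      obtain ⟨x, hx⟩ := (rel_iff u b a).1 ⟨hsq.lift b a h.symm, hsq.lift_fst _ _ _, hsq.lift_snd _ _ _⟩
      obtain ⟨n, hn⟩ := hN T a⁻¹ x
      refine ⟨n, ?_⟩
      rw [← hn, _root_.inv_inv, ← hx]
      group
    · rintro ⟨n, rfl⟩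
      obtain ⟨x, hx⟩ := hN T a n
      obtain ⟨r, h1, h2⟩ := (rel_iff u (a * (n ≫ u)) a).2 ⟨x, by rw [← hx]; group⟩
      have e := hsq.w
      rw [← h1]
      conv_lhs => rw [← h2]
      rw [Category.assoc, Category.assoc, e]
  obtain ⟨grp, hm, hk⟩ := Groth.AlgGrp1.exists_grpObj_quotient u hN p ⟨‹_›, ‹_›, ‹_›⟩ hp
  refine ⟨grp, hm, ?_⟩
  have hone : ∀ (T : Over (Spec (CommRingCat.of A))) (y : T ⟶ 𝟙_ _), y ≫ η[X] = 1 := fun T y => by
    rw [Hom.one_def, toUnit_unique y (toUnit T)]
  have w : u ≫ p = toUnit F ≫ η[X] := by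
    rw [hone, (hk F u).2 ⟨𝟙 _, Category.id_comp _⟩]
  refine ⟨⟨w⟩, ⟨PullbackCone.IsLimit.mk w
    (fun s => ((hk s.pt s.fst).1 (by rw [s.condition, hone])).choose)
    (fun s => ((hk s.pt s.fst).1 (by rw [s.condition, hone])).choose_spec)
    (fun s => toUnit_unique _ _) fun s m h₁ h₂ => ?_⟩⟩
  rw [← cancel_mono u, h₁, ((hk s.pt s.fst).1 (by rw [s.condition, hone])).choose_spec]

end Groth.ArtinQuot
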