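import Groth.Agent.ArtinQuot.Cover
import Groth.Agent.GrpschAbsch.GrpDim
import Groth.Agent.GrpschAbsch.IdComp
import Groth.Agent.FibreDim.StalkFormula
import Groth.Agent.Variety2.DimScheme
import Groth.Agent.S0355
import Groth.Agent.Agf.Quot
import Mathlib.AlgebraicGeometry.AlgClosed.Basic

/-!
Components and dimensions of homogeneous quotients of algebraic groups.
-/

set_option autoImplicit false
set_option linter.style.haveILetI false
set_option backward.isDefEq.respectTransparency.types false

universe u

open CategoryTheory MonoidalCategory CartesianMonoidalCategory MonObj GrpObj AlgebraicGeometry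
  CategoryTheory.Limits TopologicalSpace

namespace Groth.ArtinQuot

variable {k : Type u} [Field k] [IsAlgClosed k] {F G X : Over (Spec (CommRingCat.of k))}
  [GrpObj F] [GrpObj G] [LocallyOfFiniteType F.hom] [LocallyOfFiniteType G.hom]
  [LocallyOfFiniteType X.hom] (u : F ⟶ G) [IsMonHom u] (p : G ⟶ X)
  (hsq : IsPullback (trl u) (snd F G) p p)

/-- The rational point at a closed point. -/
noncomputable def ratPt (Y : Over (Spec (CommRingCat.of k))) [LocallyOfFiniteType Y.hom] {y : Y.left}
    (hy : IsClosed ({y} : Set Y.left)) : 𝟙_ (Over (Spec (CommRingCat.of k))) ⟶ Y :=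
  Over.homMk _ ((pointEquivClosedPoint Y.hom).symm ⟨y, hy⟩).2

theorem ratPt_apply (Y : Over (Spec (CommRingCat.of k))) [LocallyOfFiniteType Y.hom] {y : Y.left}
    (hy : IsClosed ({y} : Set Y.left)) (z) : (ratPt Y hy).left z = y :=
  pointOfClosedPoint_apply Y.hom y hy z

theorem ratPt_unique (Y : Over (Spec (CommRingCat.of k))) [LocallyOfFiniteType Y.hom]
    (a b : 𝟙_ (Over (Spec (CommRingCat.of k))) ⟶ Y)
    (h : a.left (IsLocalRing.closedPoint k) = b.left (IsLocalRing.closedPoint k)) : a = b := by
  ext1
  exact congrArg Subtype.val ((pointEquivClosedPoint Y.hom).injective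
    (a₁ := ⟨a.left, Over.w a⟩) (a₂ := ⟨b.left, Over.w b⟩) (Subtype.ext h))

include hsq in
omit [GrpObj F] [LocallyOfFiniteType F.hom] [IsMonHom u] in
theorem image_component_subset [Flat p.left] [LocallyOfFinitePresentation p.left] {c d : G.left}
    (h : (p.left '' connectedComponent c ∩ p.left '' connectedComponent d).Nonempty) :
    p.left '' connectedComponent c ⊆ p.left '' connectedComponent d := by
  have : JacobsonSpace G.left := LocallyOfFiniteType.jacobsonSpace G.hom
  have : JacobsonSpace X.left := LocallyOfFiniteType.jacobsonSpace X.hom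
  have ho : IsOpen (p.left '' connectedComponent c ∩ p.left '' connectedComponent d) :=
    (p.left.isOpenMap _ (Groth.GrpschAbsch.isOpen_connectedComponent' G c)).inter
      (p.left.isOpenMap _ (Groth.GrpschAbsch.isOpen_connectedComponent' G d))
  obtain ⟨z, ⟨⟨a₀, ha₀, ea₀⟩, ⟨b₀, hb₀, eb₀⟩⟩, hz⟩ := nonempty_inter_closedPoints h ho.isLocallyClosed
  obtain ⟨a, ⟨ha, ea⟩, hac⟩ := nonempty_inter_closedPoints
    (Z := connectedComponent c ∩ p.left ⁻¹' {z}) ⟨a₀, ha₀, ea₀⟩
    (isClosed_connectedComponent.inter (hz.preimage p.left.continuous)).isLocallyClosed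
  obtain ⟨b, ⟨hb, eb⟩, hbc⟩ := nonempty_inter_closedPoints
    (Z := connectedComponent d ∩ p.left ⁻¹' {z}) ⟨b₀, hb₀, eb₀⟩
    (isClosed_connectedComponent.inter (hz.preimage p.left.continuous)).isLocallyClosed
  let a' := ratPt G hac
  let b' := ratPt G hbc
  have hab : b' ≫ p = a' ≫ p := ratPt_unique X _ _ (by
    rw [Over.comp_left, Over.comp_left, Scheme.Hom.comp_apply, Scheme.Hom.comp_apply, ratPt_apply,
      ratPt_apply]
    exact eb.trans ea.symm)
  obtain ⟨f, hf⟩ := (rel_iff u b' a').1 ⟨hsq.lift b' a' hab, hsq.lift_fst _ _ _, hsq.lift_snd _ _ _⟩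
  let φ : G ⟶ G := (toUnit G ≫ f ≫ u) * 𝟙 G
  have hφp : φ ≫ p = p := by
    obtain ⟨r, h1, h2⟩ := (rel_iff u φ (𝟙 G)).2 ⟨toUnit G ≫ f, by rw [Category.assoc]⟩
    rw [← h1, Category.assoc, hsq.w, ← Category.assoc, h2, Category.id_comp]
  have hφa : φ.left a = b := by
    have e : a' ≫ φ = b' := by
      rw [← hf, MonObj.comp_mul, Category.comp_id, ← Category.assoc, toUnit_unique (a' ≫ toUnit G) (𝟙 _),
        Category.id_comp]
    have := congr(($e).left (IsLocalRing.closedPoint k))
    simpa only [Over.comp_left, Scheme.Hom.comp_apply, a', b', ratPt_apply] using this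
  rintro _ ⟨x, hx, rfl⟩
  refine ⟨φ.left x, ?_, by rw [← Scheme.Hom.comp_apply, ← Over.comp_left, hφp]⟩
  rw [connectedComponent_eq hb, ← hφa]
  refine φ.left.continuous.image_connectedComponent_subset a ⟨x, ?_, rfl⟩
  rwa [← connectedComponent_eq ha]

omit [GrpObj F] [LocallyOfFiniteType F.hom] in
theorem isCompact_component (x : G.left) : IsCompact (connectedComponent x) := by
  have : JacobsonSpace G.left := LocallyOfFiniteType.jacobsonSpace G.hom
  obtain ⟨y, hy, hyc⟩ := nonempty_inter_closedPoints (⟨x, mem_connectedComponent⟩ :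
    (connectedComponent x).Nonempty) isClosed_connectedComponent.isLocallyClosed
  have he : IsClosed ({η[G].left (IsLocalRing.closedPoint k)} : Set G.left) :=
    ((pointEquivClosedPoint G.hom) ⟨η[G].left, Over.w η[G]⟩).2
  obtain ⟨φ, hφ⟩ := Groth.GrpschAbsch.exists_homeomorph_closedPoint G he hyc
  rw [connectedComponent_eq hy, ← hφ]
  convert (Groth.Agent.S0355.result k G).2.image φ.continuous using 1
  refine Set.Subset.antisymm (fun z hz => ⟨φ.symm z, ?_, φ.apply_symm_apply z⟩)
    (φ.continuous.image_connectedComponent_subset _)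
  have := φ.symm.continuous.image_connectedComponent_subset _ ⟨z, hz, rfl⟩
  rwa [φ.symm_apply_apply] at this

include hsq in
omit [GrpObj F] [IsMonHom u] in
/-- The scheme-theoretic fibre through a rational point is the subgroup. -/
theorem isPullback_fibre (a : 𝟙_ (Over (Spec (CommRingCat.of k))) ⟶ G) :
    IsPullback ((fst F (𝟙_ _) ≫ u) * (snd F (𝟙_ _) ≫ a)) (snd F (𝟙_ _)) p (a ≫ p) := by
  have hsnd : IsPullback (F ◁ a) (snd F (𝟙_ _)) (snd F G) a := Groth.Agf.isPullback_whiskerLeft_snd F a
  have e : (F ◁ a) ≫ trl u = (fst F (𝟙_ _) ≫ u) * (snd F (𝟙_ _) ≫ a) := by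
    rw [trl_eq, MonObj.comp_mul, ← Category.assoc, whiskerLeft_fst, whiskerLeft_snd]
  rw [← e]
  exact hsnd.paste_horiz hsq

include hsq in
/-- Components of the quotient: open, irreducible, compact and of dimension `dim G - dim F`. -/
theorem quot_components [Flat p.left] [Surjective p.left] [LocallyOfFinitePresentation p.left]
    (x : X.left) :
    IsOpen (connectedComponent x) ∧ IsIrreducible (connectedComponent x) ∧
      IsCompact (connectedComponent x) ∧
      topologicalKrullDim ↥(connectedComponent x) + topologicalKrullDim ↥F.left =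
        topologicalKrullDim ↥G.left := by
  have : JacobsonSpace G.left := LocallyOfFiniteType.jacobsonSpace G.hom
  have : JacobsonSpace X.left := LocallyOfFiniteType.jacobsonSpace X.hom
  obtain ⟨c, rfl⟩ := p.left.surjective x
  let C := p.left '' connectedComponent c
  have hCo : IsOpen C := p.left.isOpenMap _ (Groth.GrpschAbsch.isOpen_connectedComponent' G c)
  have hCc : IsClosed C := by
    rw [← isOpen_compl_iff, isOpen_iff_forall_mem_open]
    intro y hy
    obtain ⟨d, rfl⟩ := p.left.surjective y
    refine ⟨p.left '' connectedComponent d, fun z hz hzC => hy ?_,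
      p.left.isOpenMap _ (Groth.GrpschAbsch.isOpen_connectedComponent' G d), d, mem_connectedComponent, rfl⟩
    exact image_component_subset u p hsq ⟨z, hz, hzC⟩ ⟨d, mem_connectedComponent, rfl⟩
  have hirr : IsIrreducible C :=
    (Groth.GrpschAbsch.isIrreducible_connectedComponent G c).image _ p.left.continuous.continuousOn
  have hC : connectedComponent (p.left c) = C :=
    (IsClopen.connectedComponent_subset ⟨hCc, hCo⟩ ⟨c, mem_connectedComponent, rfl⟩).antisymm
      (p.left.continuous.image_connectedComponent_subset c)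
  refine ⟨hC ▸ hCo, hC ▸ hirr, hC ▸ (isCompact_component c).image p.left.continuous, ?_⟩
  rw [hC]
  -- a closed point
  obtain ⟨g, hg, hgc⟩ := nonempty_inter_closedPoints (⟨c, mem_connectedComponent⟩ :
    (connectedComponent c).Nonempty) isClosed_connectedComponent.isLocallyClosed
  let a := ratPt G hgc
  let q := a ≫ p
  have hy : IsClosed ({p.left g} : Set X.left) := by
    have h : q.left (IsLocalRing.closedPoint k) = p.left g := by
      simp only [q, Over.comp_left, Scheme.Hom.comp_apply, a, ratPt_apply]
    rw [← h]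
    exact ((pointEquivClosedPoint X.hom) ⟨q.left, Over.w q⟩).2
  haveI : IsLocallyNoetherian G.left := LocallyOfFiniteType.isLocallyNoetherian G.hom
  haveI : IsLocallyNoetherian X.left := LocallyOfFiniteType.isLocallyNoetherian X.hom
  have hdim := Groth.FibreDim.ringKrullDim_stalk_eq_add p.left g fun z _ _ U hU =>
    p.left.isOpenMap.image_mem_nhds hU
  rw [Groth.GrpschAbsch.ringKrullDim_stalk_closedPoint G hgc] at hdim
  -- the target stalk
  let W : X.left.Opens := ⟨C, hCo⟩
  haveI : IrreducibleSpace W.toScheme := (isIrreducible_iff_irreducibleSpace).1 hirr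
  let w : W.toScheme := ⟨p.left g, g, hg, rfl⟩
  have hw : IsClosed ({w} : Set W.toScheme) := by
    have : ({w} : Set W.toScheme) = W.ι ⁻¹' {p.left g} := by
      ext v
      exact ⟨fun e => by rw [e]; rfl, fun e => W.ι.isOpenEmbedding.injective e⟩
    rw [this]; exact hy.preimage W.ι.continuous
  have hCdim : ringKrullDim (X.left.presheaf.stalk (p.left g)) = topologicalKrullDim C := by
    have h := Groth.Variety2.Dim.ringKrullDim_stalk_add_height (W.ι ≫ X.hom) w
    rw [(Groth.Variety2.Dim.height_eq_zero_iff w).mpr hw] at h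
    simp only [WithBot.coe_zero, _root_.add_zero] at h
    exact (ringKrullDim_eq_of_ringEquiv (asIso (W.ι.stalkMap w)).commRingCatIsoToRingEquiv).trans h
  rw [hCdim] at hdim
  -- the fibre stalk
  let m : F ⟶ G := u * (toUnit F ≫ a)
  have hm : IsPullback m.left F.hom p.left q.left := by
    have h₀ : IsPullback m (toUnit F) p q := by
      refine IsPullback.of_iso (isPullback_fibre u p hsq a) (ρ_ F) (Iso.refl _) (Iso.refl _) (Iso.refl _)
        ?_ (toUnit_unique _ _) (by simp) (by simp [q])
      rw [Iso.refl_hom, Category.comp_id, MonObj.comp_mul, ← Category.assoc _ (toUnit F),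
        toUnit_unique ((ρ_ F).hom ≫ toUnit F) (snd F (𝟙_ _)), rightUnitor_hom]
    exact h₀.map (Over.forget _)
  let d := X.left.descResidueField (Scheme.stalkClosedPointTo q.left)
  have hd : Spec.map d ≫ X.left.fromSpecResidueField (q.left (IsLocalRing.closedPoint k)) = q.left :=
    Scheme.descResidueField_stalkClosedPointTo_fromSpecResidueField k X.left q.left
  haveI : IsIso d := by
    let e := Spec.preimage (X.left.fromSpecResidueField (q.left (IsLocalRing.closedPoint k)) ≫ X.hom)
    have he : e ≫ d = 𝟙 _ := Spec.map_injective (by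
      rw [Spec.map_comp, Spec.map_preimage, reassoc_of% hd, Spec.map_id]
      exact Over.w q)
    have : Function.Bijective d.hom := ⟨d.hom.injective, fun t => ⟨e.hom t, congr(($he).hom t)⟩⟩
    exact (ConcreteCategory.isIso_iff_bijective d).2 this
  let ψ : F.left ≅ p.left.fiber (q.left (IsLocalRing.closedPoint k)) :=
    (show IsPullback m.left (F.hom ≫ Spec.map d) p.left (X.left.fromSpecResidueField _) from
      IsPullback.of_iso hm (Iso.refl _) (Iso.refl _) (asIso (Spec.map d)) (Iso.refl _) (by simp)
        (by simp) (by simp) (by simp [hd])).isoPullback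
  have hyq : p.left g = q.left (IsLocalRing.closedPoint k) := by
    simp only [q, Over.comp_left, Scheme.Hom.comp_apply, a, ratPt_apply]
  have key' : ∀ y, y = q.left (IsLocalRing.closedPoint k) → ∀ z : p.left.fiber y,
      IsClosed ({z} : Set ↥(p.left.fiber y)) →
      ringKrullDim ((p.left.fiber y).presheaf.stalk z) = topologicalKrullDim F.left := by
    rintro _ rfl z hz
    obtain ⟨f, rfl⟩ : ∃ f, ψ.hom f = z := ⟨ψ.inv z, by rw [← Scheme.Hom.comp_apply, Iso.inv_hom_id]; rfl⟩
    have hf : IsClosed ({f} : Set F.left) := by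
      have : ({f} : Set F.left) = ψ.hom ⁻¹' {ψ.hom f} := by
        ext v
        exact ⟨fun e => by rw [e]; rfl, fun e => ψ.hom.isOpenEmbedding.injective e⟩
      rw [this]; exact hz.preimage ψ.hom.continuous
    rw [← Groth.GrpschAbsch.ringKrullDim_stalk_closedPoint F hf]
    exact ringKrullDim_eq_of_ringEquiv (asIso (ψ.hom.stalkMap f)).commRingCatIsoToRingEquiv
  have key : ringKrullDim ((p.left.fiber (p.left g)).presheaf.stalk (p.left.asFiber g)) =
      topologicalKrullDim F.left := by
    refine key' _ hyq _ ?_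
    have : ({p.left.asFiber g} : Set ↥(p.left.fiber (p.left g))) = p.left.fiberι (p.left g) ⁻¹' {g} := by
      ext v
      refine ⟨fun e => by rw [e]; exact p.left.fiberι_asFiber g, fun e => ?_⟩
      exact (p.left.fiberι (p.left g)).isEmbedding.injective (e.trans (p.left.fiberι_asFiber g).symm)
    rw [this]; exact hgc.preimage (p.left.fiberι _).continuous
  rw [key] at hdim
  exact hdim.symm

end Groth.ArtinQuot
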