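import Groth.Agent.ArtinQuot.Scheme
import Groth.Agent.ArtinQuot.Components
import Groth.Agent.GrpschAbsch.IntegralDim
import Groth.Prelude.Def_Red

/-!
Components and dimensions of quotients over an artinian base, read on the geometric special fibre.
-/

set_option autoImplicit false
set_option linter.style.haveILetI false
set_option backward.isDefEq.respectTransparency.types false

universe u

open CategoryTheory MonoidalCategory CartesianMonoidalCategory MonObj GrpObj AlgebraicGeometry
  CategoryTheory.Limits TopologicalSpace

namespace Groth.ArtinQuot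

theorem isPullback_trl_bc {S S' : Scheme.{u}} (t : S' ⟶ S) {F G X : Over S} [GrpObj F] [GrpObj G]
    (u : F ⟶ G) (p : G ⟶ X) (hsq : IsPullback (trl u) (snd F G) p p) :
    IsPullback (trl ((Over.pullback t).map u)) (snd (Red.bc t F) (Red.bc t G))
      ((Over.pullback t).map p) ((Over.pullback t).map p) := by
  refine IsPullback.of_iso (hsq.map (Over.pullback t))
    (Functor.Monoidal.μIso (Over.pullback t) F G).symm (Iso.refl _) (Iso.refl _) (Iso.refl _)
    ?_ ?_ (by simp) (by simp)
  · rw [Iso.refl_hom, Category.comp_id, trl, trl, ← cancel_epi (Functor.Monoidal.μIso (Over.pullback t) F G).hom,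
      Iso.symm_hom, Iso.hom_inv_id_assoc, Functor.map_comp, Functor.Monoidal.μIso_hom,
      ← Functor.LaxMonoidal.μ_natural_left_assoc]
    rfl
  · rw [Iso.refl_hom, Category.comp_id, ← cancel_epi (Functor.Monoidal.μIso (Over.pullback t) F G).hom,
      Iso.symm_hom, Iso.hom_inv_id_assoc, Functor.Monoidal.μIso_hom, Functor.Monoidal.μ_snd]

theorem dim_eq_of_isIntegralHom {X Y : Scheme.{u}} (f : X ⟶ Y) [IsIntegralHom f] [Surjective f] :
    topologicalKrullDim X = topologicalKrullDim Y := by
  rw [Groth.Variety2.Dim.dim_eq_iSup_height, Groth.Variety2.Dim.dim_eq_iSup_height]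
  refine le_antisymm (iSup_le fun x => ?_) (iSup_le fun y => ?_)
  · rw [← Groth.GrpschAbsch.height_eq_of_isIntegralHom f x]
    exact le_iSup (fun z : Y => ((Order.height z : ℕ∞) : WithBot ℕ∞)) _
  · obtain ⟨x, rfl⟩ := f.surjective y
    rw [Groth.GrpschAbsch.height_eq_of_isIntegralHom f x]
    exact le_iSup (fun z : X => ((Order.height z : ℕ∞) : WithBot ℕ∞)) _

theorem dim_image_eq_of_isIntegralHom {X Y : Scheme.{u}} (f : X ⟶ Y) [IsIntegralHom f] {C : Set X}
    (hC : IsClosed C) : topologicalKrullDim ↥(f '' C) = topologicalKrullDim ↥C := by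
  rw [Groth.Variety2.Dim.dim_closed (f.isClosedMap C hC), Groth.Variety2.Dim.dim_closed hC, iSup_image]
  exact iSup_congr fun x => iSup_congr fun _ => by rw [Groth.GrpschAbsch.height_eq_of_isIntegralHom f x]

variable {A : Type u} [CommRing A] [IsArtinianRing A] [IsLocalRing A]
  {F G X : Over (Spec (CommRingCat.of A))} [GrpObj F] [GrpObj G] [LocallyOfFiniteType F.hom]
  [LocallyOfFiniteType G.hom] [LocallyOfFiniteType X.hom] (u : F ⟶ G) [IsMonHom u] (p : G ⟶ X)
  [Flat p.left] [Surjective p.left] [LocallyOfFinitePresentation p.left]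

theorem quot_components_artin (hsq : IsPullback (trl u) (snd F G) p p) (x : X.left) :
    IsIrreducible (connectedComponent x) ∧ IsCompact (connectedComponent x) ∧
      topologicalKrullDim ↥(connectedComponent x) + topologicalKrullDim ↥F.left =
        topologicalKrullDim ↥G.left := by
  let K := AlgebraicClosure (IsLocalRing.ResidueField A)
  let t : Spec (CommRingCat.of K) ⟶ Spec (CommRingCat.of A) := (Bar A).hom
  haveI := isClosedImmersion_kap A
  haveI := isIntegralHom_barToKap A
  haveI := surjective_kap A
  haveI := surjective_barToKap A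
  haveI ht : IsIntegralHom t := by
    show IsIntegralHom (Bar A).hom
    rw [← Over.w (barToKap A)]; infer_instance
  haveI hts : Surjective t := by
    show Surjective (Bar A).hom
    rw [← Over.w (barToKap A)]; infer_instance
  haveI := discrete_base A
  haveI htu : UniversallyOpen t := Groth.DescentBase.universallyOpen_of_discrete _
  let f := fun (Y : Over (Spec (CommRingCat.of A))) => pullback.fst Y.hom t
  have hlft : ∀ (Y : Over (Spec (CommRingCat.of A))) [LocallyOfFiniteType Y.hom],
      LocallyOfFiniteType (Red.bc t Y).hom := fun Y _ =>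
    MorphismProperty.pullback_snd (P := @LocallyOfFiniteType) _ _ ‹_›
  haveI := hlft F
  haveI := hlft G
  haveI := hlft X
  let p' := (Over.pullback t).map p
  have hpb : IsPullback p'.left (f G) (f X) p.left := by
    refine IsPullback.of_right (h₁₂ := pullback.snd X.hom t) (h₂₂ := X.hom) ?_ (pullback.lift_fst _ _ _) (IsPullback.of_hasPullback X.hom t).flip
    rw [Over.w p]
    have e : p'.left ≫ pullback.snd X.hom t = pullback.snd G.hom t := pullback.lift_snd _ _ _
    rw [e]
    exact (IsPullback.of_hasPullback G.hom t).flip
  haveI : Flat p'.left := MorphismProperty.of_isPullback hpb.flip ‹Flat p.left›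
  haveI : Surjective p'.left := MorphismProperty.of_isPullback hpb.flip ‹Surjective p.left›
  haveI : LocallyOfFinitePresentation p'.left :=
    MorphismProperty.of_isPullback hpb.flip ‹LocallyOfFinitePresentation p.left›
  haveI : IsMonHom ((Over.pullback t).map u) := inferInstance
  obtain ⟨y, rfl⟩ := (f X).surjective x
  obtain ⟨hopen, h1, h2, h3⟩ := quot_components ((Over.pullback t).map u) p' (isPullback_trl_bc t u p hsq) y
  have hcc : connectedComponent (f X y) = f X '' connectedComponent y :=
    (IsClopen.connectedComponent_subset ⟨(f X).isClosedMap _ isClosed_connectedComponent,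
      (f X).isOpenMap _ hopen⟩ ⟨y, mem_connectedComponent, rfl⟩).antisymm
      ((f X).continuous.image_connectedComponent_subset y)
  rw [hcc]
  refine ⟨h1.image _ (f X).continuous.continuousOn, h2.image (f X).continuous, ?_⟩
  rw [dim_image_eq_of_isIntegralHom (f X) isClosed_connectedComponent,
    ← dim_eq_of_isIntegralHom (f F), ← dim_eq_of_isIntegralHom (f G)]
  exact h3

end Groth.ArtinQuot
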