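import Groth.Agent.S10103
import Groth.Agent.AlgSpBasic.SepLocal
import Groth.Agent.AlgSp2.SmoothDescent

/-!
The quotient sheaf of a group scheme by a flat closed subgroup is a separated algebraic space.
-/

set_option autoImplicit false
set_option linter.style.haveILetI false
set_option backward.isDefEq.respectTransparency.types false

universe u

open CategoryTheory MonoidalCategory CartesianMonoidalCategory MonObj GrpObj AlgebraicGeometry
  CategoryTheory.Limits AlgSp Groth.AlgSpBasic

namespace Groth.ArtinQuot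

variable {S : Scheme.{u}} {F G : Over S} [GrpObj F] [GrpObj G] (u : F ⟶ G) [IsMonHom u]

/-- Left translation by the subgroup. -/
noncomputable def trl : F ⊗ G ⟶ G := (u ▷ G) ≫ μ[G]

omit [GrpObj F] [IsMonHom u] in
theorem trl_eq : trl u = (fst F G ≫ u) * snd F G := by
  rw [trl, Hom.mul_def]
  congr 1

omit [GrpObj F] [IsMonHom u] in
theorem comp_trl {T : Over S} (r : T ⟶ F ⊗ G) :
    r ≫ trl u = (r ≫ fst F G ≫ u) * (r ≫ snd F G) := by
  rw [trl_eq, MonObj.comp_mul]

omit [GrpObj F] [IsMonHom u] in
theorem rel_iff {T : Over S} (a b : T ⟶ G) :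
    (∃ r : T ⟶ F ⊗ G, r ≫ trl u = a ∧ r ≫ snd F G = b) ↔ ∃ x : T ⟶ F, (x ≫ u) * b = a := by
  constructor
  · rintro ⟨r, rfl, rfl⟩
    exact ⟨r ≫ fst F G, by rw [comp_trl, Category.assoc]⟩
  · rintro ⟨x, rfl⟩
    exact ⟨lift x b, by rw [comp_trl, lift_fst_assoc, lift_snd], lift_snd _ _⟩

theorem isEqvRel [Mono u] : IsEqvRel (snd F G) (trl u) where
  injective T r r' h₁ h₂ := by
    apply CartesianMonoidalCategory.hom_ext
    · rw [comp_trl, comp_trl, h₂] at h₁
      have := mul_right_cancel h₁
      rw [← Category.assoc, ← Category.assoc] at this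
      exact (cancel_mono u).1 this
    · exact h₂
  equivalence T := by
    refine ⟨fun a => (rel_iff u a a).2 ⟨1, by rw [MonObj.one_comp, _root_.one_mul]⟩,
      fun {a b} h => ?_, fun {a b c} h h' => ?_⟩
    · obtain ⟨x, rfl⟩ := (rel_iff u _ _).1 h
      exact (rel_iff u _ _).2 ⟨x⁻¹, by rw [GrpObj.inv_comp, inv_mul_cancel_left]⟩
    · obtain ⟨x, rfl⟩ := (rel_iff u _ _).1 h
      obtain ⟨y, rfl⟩ := (rel_iff u _ _).1 h'
      exact (rel_iff u _ _).2 ⟨x * y, by rw [MonObj.mul_comp, _root_.mul_assoc]⟩

omit [GrpObj F] [IsMonHom u] in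
/-- Shearing. -/
noncomputable def shear : F ⊗ G ≅ F ⊗ G where
  hom := lift (fst F G) ((fst F G ≫ u) * snd F G)
  inv := lift (fst F G) ((fst F G ≫ u)⁻¹ * snd F G)
  hom_inv_id := by
    apply CartesianMonoidalCategory.hom_ext
    · simp
    · simp [MonObj.comp_mul, GrpObj.comp_inv]
  inv_hom_id := by
    apply CartesianMonoidalCategory.hom_ext
    · simp
    · simp [MonObj.comp_mul, GrpObj.comp_inv]

omit [GrpObj F] [IsMonHom u] in
theorem shear_hom_snd : (shear u).hom ≫ snd F G = trl u := by
  rw [trl_eq]; exact lift_snd _ _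

omit [GrpObj F] [IsMonHom u] in
theorem trl_left_prop (P : MorphismProperty Scheme.{u}) [P.IsStableUnderBaseChange]
    (hF : P F.hom) : P (trl u).left := by
  have : P.RespectsIso := MorphismProperty.IsStableUnderBaseChange.respectsIso
  rw [← shear_hom_snd, Over.comp_left]
  haveI : IsIso (shear u).hom.left := ((Over.forget S).mapIso (shear u)).isIso_hom
  rw [P.cancel_left_of_respectsIso]
  exact MorphismProperty.of_isPullback (IsPullback.of_hasPullback F.hom G.hom) hF

/-- The quotient of `G` by a flat subgroup as a sheaf with an fppf chart. -/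
theorem exists_quot [Mono u] [Flat F.hom] [LocallyOfFinitePresentation F.hom] :
    ∃ (X : Sp S) (π : (yon S).obj G ⟶ X), IsAlgSpace X ∧ Sheaf.IsLocallySurjective π ∧
      IsPullback ((yon S).map (trl u)) ((yon S).map (snd F G)) π π ∧
      RepWith @Flat π ∧ RepWith @LocallyOfFinitePresentation π ∧ RepWith @Surjective π ∧
      (IsClosedImmersion u.left → IsSeparatedSp X) := by
  have h := isEqvRel u
  have hs1 : Flat (snd F G).left :=
    MorphismProperty.of_isPullback (IsPullback.of_hasPullback F.hom G.hom) ‹Flat F.hom›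
  have hs2 : LocallyOfFinitePresentation (snd F G).left :=
    MorphismProperty.of_isPullback (IsPullback.of_hasPullback F.hom G.hom)
      ‹LocallyOfFinitePresentation F.hom›
  have ht1 : Flat (trl u).left := trl_left_prop u @Flat inferInstance
  have ht2 : LocallyOfFinitePresentation (trl u).left :=
    trl_left_prop u @LocallyOfFinitePresentation inferInstance
  have hX := Groth.Agent.S10103.result S (snd F G) (trl u) h
  let π := yonQuotπ (snd F G) (trl u)
  haveI hloc : Sheaf.IsLocallySurjective π := isLocallySurjective_yonQuotπ _ _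
  have sq : IsPullback ((yon S).map (trl u)) ((yon S).map (snd F G)) π π := isPullback_yonQuot h
  have hr : Representable π := hX.representable_from_yon π
  have hsurj : Surjective (snd F G).left := ⟨fun g => by
    refine ⟨(lift (1 : G ⟶ F) (𝟙 G)).left g, ?_⟩
    rw [← Scheme.Hom.comp_apply, ← Over.comp_left, lift_snd]
    rfl⟩
  refine ⟨_, π, hX, hloc, sq,
    repWith_of_isLocallySurjective π hr π _ _ sq ((repWith_yon_map_iff _ _).2 hs1),
    repWith_of_isLocallySurjective π hr π _ _ sq ((repWith_yon_map_iff _ _).2 hs2),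
    repWith_of_isLocallySurjective π hr π _ _ sq ((repWith_yon_map_iff _ _).2 hsurj), fun hu => ?_⟩
  have := isLocallySurjective_prod_map (π := π)
  let b := Limits.prodComparison (yon S) G G ≫ prod.map π π
  refine repWith_of_isLocallySurjective _ hX.diag b _ _ (isPullback_diag_yon sq)
    ((repWith_yon_map_iff _ _).2 ?_)
  let d : (G ⨯ G : Over S) ⟶ G := Limits.prod.fst * (Limits.prod.snd : (G ⨯ G : Over S) ⟶ G)⁻¹
  have hd : ∀ {T : Over S} (r : T ⟶ F ⊗ G), r ≫ prod.lift (trl u) (snd F G) ≫ d = r ≫ fst F G ≫ u := by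
    intro T r
    rw [← Category.assoc, MonObj.comp_mul, GrpObj.comp_inv]
    simp only [Category.assoc, Limits.prod.lift_fst, Limits.prod.lift_snd]
    rw [comp_trl, mul_inv_cancel_right]
  have w : fst F G ≫ u = prod.lift (trl u) (snd F G) ≫ d := by
    simpa using (hd (𝟙 _)).symm
  have hsq : IsPullback (fst F G) (prod.lift (trl u) (snd F G)) u d := by
    refine ⟨⟨w⟩, ⟨PullbackCone.IsLimit.mk w
      (fun c => lift c.fst (c.snd ≫ Limits.prod.snd)) (fun c => lift_fst _ _) (fun c => ?_)
      (fun c m h₁ h₂ => ?_)⟩⟩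
    · refine Limits.prod.hom_ext ?_ ?_
      · rw [Category.assoc, Limits.prod.lift_fst, comp_trl, lift_fst_assoc, lift_snd, c.condition,
          MonObj.comp_mul, GrpObj.comp_inv, inv_mul_cancel_right]
      · rw [Category.assoc, Limits.prod.lift_snd, lift_snd]
    · apply CartesianMonoidalCategory.hom_ext
      · rw [lift_fst, h₁]
      · rw [lift_snd, ← h₂, Category.assoc, Limits.prod.lift_snd]
  exact MorphismProperty.of_isPullback (hsq.map (Over.forget S)) hu

end Groth.ArtinQuot
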