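import Groth.Agent.ArtinQuot.BarDescent
import Groth.Agent.Calg4.MonoFactor.Over
import Groth.Agent.GrpschLoci.MonoHomLft
import Groth.Agent.GrpschAbsch.ComponentsArtin

/-!
Images of homomorphisms and homogeneous spaces over an artinian base, read on the geometric fibre.
-/

set_option autoImplicit false
set_option linter.style.haveILetI false
set_option backward.isDefEq.respectTransparency.types false

universe u

open CategoryTheory MonoidalCategory CartesianMonoidalCategory MonObj GrpObj AlgebraicGeometry
  CategoryTheory.Limits TopologicalSpace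

namespace Groth.ArtinQuot

section Field

variable {k : Type u} [Field k] [IsAlgClosed k] {G H : Over (Spec (CommRingCat.of k))}
  [GrpObj G] [GrpObj H] [LocallyOfFiniteType G.hom] [LocallyOfFiniteType H.hom]
  (u : G ⟶ H) [IsMonHom u]

omit [IsAlgClosed k] in
theorem flat_to_field {X : Scheme.{u}} (f : X ⟶ Spec (CommRingCat.of k)) : Flat f := inferInstance

/-- Closed image and dimension formula for a quasi-compact homomorphism. -/
theorem image_dim [QuasiCompact u.left] :
    IsClosed (Set.range u.left) ∧ topologicalKrullDim G.left =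
      topologicalKrullDim ↥(Set.range u.left) + topologicalKrullDim ↥(pullback u η[H]).left := by
  haveI : LocallyOfFinitePresentation G.hom := inferInstance
  obtain ⟨Q, gQ, p, i, hp, hi, hpi, hs, hf, hl, hmono, hQ, hker⟩ :=
    Groth.Calg4.MonoFactor.kernel_quotient u (flat_to_field (pullback u η[H]).hom)
  haveI : QuasiCompact (p.left ≫ i.left) := by rw [← Over.comp_left, hpi]; infer_instance
  haveI : QuasiCompact i.left := Groth.FlatMor2.quasiCompact_of_comp_surjective p.left i.left
  haveI : IsClosedImmersion i.left := Groth.GrpschLoci.isClosedImmersion_of_mono_lft i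
  have hrange : Set.range u.left = Set.range i.left := by
    rw [← hpi, Over.comp_left, Scheme.Hom.comp_base, TopCat.coe_comp, p.left.surjective.range_comp]
  refine ⟨hrange ▸ i.left.isClosedEmbedding.isClosed_range, ?_⟩
  let j := pullback.fst u η[H]
  let K := pullback u η[H]
  haveI : LocallyOfFiniteType K.hom := by
    have : LocallyOfFiniteType j.left := by
      haveI hη : IsClosedImmersion η[H].left :=
        isClosedImmersion_of_comp_eq_id H.hom η[H].left (Over.w η[H])
      exact MorphismProperty.of_isPullback ((IsPullback.of_hasPullback u η[H]).map (Over.forget _)).flip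
        (inferInstanceAs (LocallyOfFiniteType η[H].left))
    rw [← Over.w j]; infer_instance
  haveI : Mono j := ⟨fun a b e => (IsPullback.of_hasPullback u η[H]).hom_ext e (toUnit_unique _ _)⟩
  obtain ⟨gK, hj⟩ : ∃ _ : GrpObj K, IsMonHom j := by
    have hjone : j ≫ u = 1 := by
      rw [(IsPullback.of_hasPullback u η[H]).w, Hom.one_def, toUnit_unique (pullback.snd u η[H]) (toUnit _)]
    have hz : ∀ {T : Over (Spec (CommRingCat.of k))} (g : T ⟶ G), g ≫ u = 1 → ∃ z : T ⟶ K, z ≫ j = g :=
      fun {T} g hg => ⟨(IsPullback.of_hasPullback u η[H]).lift g (toUnit T) (by rw [hg, Hom.one_def]),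
        IsPullback.lift_fst _ _ _ _⟩
    refine Groth.GrpschAbsch.NeutralSet.exists_grpObj_of_mono G j (hz _ ?_) (hz _ ?_) (hz _ ?_)
    · rw [IsMonHom.one_hom, Hom.one_def, toUnit_unique (toUnit _) (𝟙 _), Category.id_comp]
    · rw [MonObj.mul_comp, Category.assoc, Category.assoc, hjone, MonObj.comp_one, MonObj.comp_one,
        _root_.one_mul]
    · rw [GrpObj.inv_comp, hjone, inv_one]
  have hk : ∀ (T : Over (Spec (CommRingCat.of k))) (g : T ⟶ G), g ≫ p = 1 ↔ ∃ n : T ⟶ K, n ≫ j = g := by
    intro T g
    constructor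
    · intro h
      exact ⟨hker.lift g (toUnit T) (by rw [h, Hom.one_def]), hker.lift_fst _ _ _⟩
    · rintro ⟨n, rfl⟩
      rw [Category.assoc, hker.w, ← Category.assoc, Hom.one_def, toUnit_unique (n ≫ toUnit K) (toUnit T)]
  have hsq : IsPullback (trl j) (snd K G) p p := by
    have w : trl j ≫ p = snd K G ≫ p := by
      rw [trl_eq, MonObj.mul_comp, (hk _ _).2 ⟨fst K G, rfl⟩, _root_.one_mul]
    have hex : ∀ s : PullbackCone p p, ∃ n : s.pt ⟶ K, n ≫ j = s.fst * s.snd⁻¹ := fun s =>
      (hk _ _).1 (by rw [MonObj.mul_comp, GrpObj.inv_comp, s.condition, mul_inv_cancel])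
    refine ⟨⟨w⟩, ⟨PullbackCone.IsLimit.mk w (fun s => lift (hex s).choose s.snd)
      (fun s => ?_) (fun s => lift_snd _ _) (fun s m h₁ h₂ => ?_)⟩⟩
    · rw [comp_trl, lift_fst_assoc, lift_snd, (hex s).choose_spec, inv_mul_cancel_right]
    · apply CartesianMonoidalCategory.hom_ext
      · rw [lift_fst, ← cancel_mono j, (hex s).choose_spec, ← h₁, comp_trl, h₂, mul_inv_cancel_right,
          Category.assoc]
      · rw [lift_snd, h₂]
  haveI : LocallyOfFiniteType Q.hom := inferInstance
  have hr : topologicalKrullDim ↥(Set.range u.left) = topologicalKrullDim Q.left := by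
    rw [hrange]
    exact (i.left.isClosedEmbedding.isEmbedding.toHomeomorph.isHomeomorph.topologicalKrullDim_eq _).symm
  rw [hr]
  let e : Q.left := η[Q].left (IsLocalRing.closedPoint k)
  obtain ⟨-, hirr, -, hd⟩ := quot_components j p hsq e
  rw [← hd]
  congr 1
  obtain ⟨ξ, hξ⟩ := QuasiSober.sober hirr isClosed_connectedComponent
  have hmax : IsMax ξ := fun z hz => by
    refine Scheme.le_iff_specializes.mpr (hξ.specializes ?_)
    have hz' : z ⤳ ξ := Scheme.le_iff_specializes.mp hz
    have hcc := Groth.GrpschAbsch.isOpen_connectedComponent' Q e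
    exact hz'.mem_open hcc hξ.mem
  rw [← Groth.GrpschAbsch.height_eq_dim_of_isMax Q hmax, ← hξ,
    Groth.Variety2.Dim.dim_closure_singleton ξ]

/-- All components of a homogeneous space over an algebraically closed field have equal dimension. -/
theorem dim_component_eq {X : Over (Spec (CommRingCat.of k))} [LocallyOfFiniteType X.hom]
    (a : AlgGrp.Action G X) [Surjective (lift a.act (snd G X)).left] (x y : X.left) :
    topologicalKrullDim ↥(connectedComponent x) = topologicalKrullDim ↥(connectedComponent y) := by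
  have : JacobsonSpace X.left := LocallyOfFiniteType.jacobsonSpace X.hom
  haveI : LocallyOfFiniteType (G ⊗ X).hom := by
    show LocallyOfFiniteType (pullback.fst G.hom X.hom ≫ G.hom)
    infer_instance
  haveI : LocallyOfFiniteType (X ⊗ X).hom := by
    show LocallyOfFiniteType (pullback.fst X.hom X.hom ≫ X.hom)
    infer_instance
  have : JacobsonSpace (G ⊗ X).left := LocallyOfFiniteType.jacobsonSpace (G ⊗ X).hom
  obtain ⟨x₀, hx, hxc⟩ := nonempty_inter_closedPoints (⟨x, mem_connectedComponent⟩ :
    (connectedComponent x).Nonempty) isClosed_connectedComponent.isLocallyClosed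
  obtain ⟨y₀, hy, hyc⟩ := nonempty_inter_closedPoints (⟨y, mem_connectedComponent⟩ :
    (connectedComponent y).Nonempty) isClosed_connectedComponent.isLocallyClosed
  let c := lift (ratPt X hyc) (ratPt X hxc)
  let P := c.left (IsLocalRing.closedPoint k)
  have hP : IsClosed ({P} : Set (X ⊗ X).left) :=
    ((pointEquivClosedPoint (X ⊗ X).hom) ⟨c.left, Over.w c⟩).2
  obtain ⟨w, hw, hwc⟩ := nonempty_inter_closedPoints
    (Z := (lift a.act (snd G X)).left ⁻¹' {P}) ((lift a.act (snd G X)).left.surjective P)
    (hP.preimage (lift a.act (snd G X)).left.continuous).isLocallyClosed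
  let w' := ratPt (G ⊗ X) hwc
  have hwc' : w' ≫ lift a.act (snd G X) = c := ratPt_unique (X ⊗ X) _ _ (by
    rw [Over.comp_left, Scheme.Hom.comp_apply, ratPt_apply]; exact hw)
  have h1 : w' ≫ a.act = ratPt X hyc := by
    have := congrArg (· ≫ fst X X) hwc'
    simpa [c] using this
  have h2 : w' ≫ snd G X = ratPt X hxc := by
    have := congrArg (· ≫ snd X X) hwc'
    simpa [c] using this
  let g := w' ≫ fst G X
  let τ : (Over.mk X.hom) ⟶ X := lift (toUnit X ≫ g) (𝟙 X) ≫ a.act
  let τ' : X ⟶ X := lift (toUnit X ≫ g⁻¹) (𝟙 X) ≫ a.act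
  have hcomp : ∀ g₁ g₂ : 𝟙_ (Over (Spec (CommRingCat.of k))) ⟶ G,
      (lift (toUnit X ≫ g₁) (𝟙 X) ≫ a.act) ≫ lift (toUnit X ≫ g₂) (𝟙 X) ≫ a.act =
        lift (toUnit X ≫ (g₂ * g₁)) (𝟙 X) ≫ a.act := by
    intro g₁ g₂
    rw [← Category.assoc, comp_lift, Category.comp_id, ← Category.assoc _ (toUnit X),
      toUnit_unique ((lift (toUnit X ≫ g₁) (𝟙 X) ≫ a.act) ≫ toUnit X) (toUnit X), MonObj.comp_mul,
      Groth.Agf.lift_mul_act]
  have h0 : lift (toUnit X ≫ (1 : 𝟙_ _ ⟶ G)) (𝟙 X) ≫ a.act = 𝟙 X := by
    rw [MonObj.comp_one, Groth.Agf.lift_one_act]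
  let e : X ≅ X :=
    { hom := τ
      inv := τ'
      hom_inv_id := by rw [hcomp g g⁻¹, inv_mul_cancel, h0]
      inv_hom_id := by rw [hcomp g⁻¹ g, mul_inv_cancel, h0] }
  haveI : IsIso e.hom.left := ((Over.forget _).mapIso e).isIso_hom
  let φ : X.left ≃ₜ X.left := e.hom.left.homeomorph
  have hφ : φ x₀ = y₀ := by
    have h3 : ratPt X hxc ≫ e.hom = ratPt X hyc := by
      rw [← h1, ← h2]
      show (w' ≫ snd G X) ≫ lift (toUnit X ≫ g) (𝟙 X) ≫ a.act = w' ≫ a.act
      rw [← Category.assoc _ (lift _ _), comp_lift, Category.comp_id, ← Category.assoc _ (toUnit X),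
        toUnit_unique ((w' ≫ snd G X) ≫ toUnit X) (𝟙 _), Category.id_comp]
      simp only [g, ← comp_lift, lift_fst_snd, Category.comp_id]
    have h4 := congr(($h3).left (IsLocalRing.closedPoint k))
    simp only [Over.comp_left, Scheme.Hom.comp_apply, ratPt_apply] at h4
    exact h4
  rw [connectedComponent_eq hx, connectedComponent_eq hy, ← hφ]
  have him : φ '' connectedComponent x₀ = connectedComponent (φ x₀) := by
    refine Set.Subset.antisymm (φ.continuous.image_connectedComponent_subset _) fun z hz =>
      ⟨φ.symm z, ?_, φ.apply_symm_apply z⟩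
    have := φ.symm.continuous.image_connectedComponent_subset _ ⟨z, hz, rfl⟩
    rwa [φ.symm_apply_apply] at this
  rw [← him]
  exact (φ.image (connectedComponent x₀)).isHomeomorph.topologicalKrullDim_eq _

end Field

section Artin

variable (A : Type u) [CommRing A] [IsArtinianRing A] [IsLocalRing A]

theorem bar_facts : IsIntegralHom (Bar A).hom ∧ Surjective (Bar A).hom ∧ UniversallyOpen (Bar A).hom := by
  haveI := isClosedImmersion_kap A
  haveI := isIntegralHom_barToKap A
  haveI := surjective_kap A
  haveI := surjective_barToKap A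
  haveI := discrete_base A
  refine ⟨?_, ?_, Groth.DescentBase.universallyOpen_of_discrete _⟩
  · rw [← Over.w (barToKap A)]; infer_instance
  · rw [← Over.w (barToKap A)]; infer_instance

variable {A} {G H X : Over (Spec (CommRingCat.of A))}

theorem lft_bc (Y : Over (Spec (CommRingCat.of A))) [LocallyOfFiniteType Y.hom] :
    LocallyOfFiniteType (Red.bc (Bar A).hom Y).hom :=
  MorphismProperty.pullback_snd (P := @LocallyOfFiniteType) _ _ ‹_›

theorem isPullback_bc_map (v : G ⟶ H) :
    IsPullback ((Over.pullback (Bar A).hom).map v).left (pullback.fst G.hom (Bar A).hom)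
      (pullback.fst H.hom (Bar A).hom) v.left := by
  refine IsPullback.of_right (h₁₂ := pullback.snd H.hom (Bar A).hom) (h₂₂ := H.hom) ?_
    (pullback.lift_fst _ _ _) (IsPullback.of_hasPullback H.hom (Bar A).hom).flip
  rw [Over.w v, show ((Over.pullback (Bar A).hom).map v).left ≫ pullback.snd H.hom (Bar A).hom =
    pullback.snd G.hom (Bar A).hom from pullback.lift_snd _ _ _]
  exact (IsPullback.of_hasPullback G.hom (Bar A).hom).flip

variable [GrpObj G] [LocallyOfFiniteType G.hom]

theorem image_dim_artin [GrpObj H] [LocallyOfFiniteType H.hom] (u : G ⟶ H) [IsMonHom u]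
    [QuasiCompact u.left] :
    IsClosed (Set.range u.left) ∧ topologicalKrullDim G.left = topologicalKrullDim ↥(Set.range u.left) +
      topologicalKrullDim ↥(pullback u.left η[H].left) := by
  obtain ⟨_, _, _⟩ := bar_facts A
  haveI := lft_bc (A := A) G
  haveI := lft_bc (A := A) H
  let u' := (Over.pullback (Bar A).hom).map u
  have hsq := isPullback_bc_map u
  haveI : QuasiCompact u'.left := MorphismProperty.of_isPullback hsq.flip ‹QuasiCompact u.left›
  let fG := pullback.fst G.hom (Bar A).hom
  let fH := pullback.fst H.hom (Bar A).hom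
  obtain ⟨h1, h2⟩ := image_dim u'
  have hrange : fH '' Set.range u'.left = Set.range u.left := by
    rw [← Set.range_comp, ← fG.surjective.range_comp u.left]
    refine congrArg Set.range (funext fun z => ?_)
    show fH (u'.left z) = u.left (fG z)
    rw [← Scheme.Hom.comp_apply, ← Scheme.Hom.comp_apply]
    exact congrArg (fun φ : (Red.bc (Bar A).hom G).left ⟶ H.left => φ z) hsq.w
  refine ⟨hrange ▸ fH.isClosedMap _ h1, ?_⟩
  rw [← dim_eq_of_isIntegralHom fG, ← hrange, dim_image_eq_of_isIntegralHom fH h1]
  refine h2.trans (congrArg (_ + ·) ?_)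
  let t := (Bar A).hom
  let K' := pullback u η[H]
  haveI : IsIntegralHom (pullback.fst K'.hom t) := inferInstance
  have hker : IsPullback ((Over.pullback t).map (pullback.fst u η[H])) (toUnit _) u' η[Red.bc t H] := by
    refine IsPullback.of_iso ((IsPullback.of_hasPullback u η[H]).map (Over.pullback t)) (Iso.refl _)
      (Iso.refl _) (Functor.Monoidal.εIso (Over.pullback t)).symm (Iso.refl _) (by simp [u'])
      (toUnit_unique _ _) (by simp only [Iso.refl_hom, Category.comp_id, Category.id_comp]; rfl) ?_
    rw [Iso.refl_hom, Category.comp_id, Iso.symm_hom,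
      ← cancel_epi (Functor.Monoidal.εIso (Over.pullback t)).hom, Iso.hom_inv_id_assoc]
    rfl
  have e1 : topologicalKrullDim ↥(pullback u' η[Red.bc t H]).left =
      topologicalKrullDim ↥(Red.bc t K').left :=
    (((Over.forget _).mapIso hker.isoPullback).inv.homeomorph).isHomeomorph.topologicalKrullDim_eq _
  have e2 : topologicalKrullDim ↥(pullback u.left η[H].left) = topologicalKrullDim ↥K'.left :=
    (((IsPullback.of_hasPullback u η[H]).map (Over.forget _)).isoPullback.inv.homeomorph).isHomeomorph.topologicalKrullDim_eq _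
  rw [e1, e2]
  exact dim_eq_of_isIntegralHom (pullback.fst K'.hom t)

theorem dim_component_artin [LocallyOfFiniteType X.hom] (a : AlgGrp.Action G X)
    [Surjective (lift a.act (snd G X)).left] (x y : X.left) :
    topologicalKrullDim ↥(connectedComponent x) = topologicalKrullDim ↥(connectedComponent y) := by
  obtain ⟨_, _, _⟩ := bar_facts A
  haveI := lft_bc (A := A) G
  haveI := lft_bc (A := A) X
  let t := (Bar A).hom
  let fX := pullback.fst X.hom t
  haveI : Surjective ((Over.pullback t).map (lift a.act (snd G X))).left :=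
    MorphismProperty.of_isPullback (P := @Surjective)
      (isPullback_bc_map (lift a.act (snd G X))).flip ‹_›
  haveI : Surjective (lift (a.bc t).act (snd (Red.bc t G) (Red.bc t X))).left := by
    have e : lift (a.bc t).act (snd (Red.bc t G) (Red.bc t X)) ≫ Functor.LaxMonoidal.μ (Over.pullback t) X X =
        Functor.LaxMonoidal.μ (Over.pullback t) G X ≫ (Over.pullback t).map (lift a.act (snd G X)) := by
      have h : snd (Red.bc t G) (Red.bc t X) =
          Functor.LaxMonoidal.μ (Over.pullback t) G X ≫ (Over.pullback t).map (snd G X) :=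
        (Functor.Monoidal.μ_snd (Over.pullback t) G X).symm
      rw [h, AlgGrp.Action.bc_act, ← comp_lift_assoc, Functor.Monoidal.lift_μ]
    have e' := congrArg (fun φ => φ ≫ inv (Functor.LaxMonoidal.μ (Over.pullback t) X X)) e
    simp only [Category.assoc, IsIso.hom_inv_id, Category.comp_id] at e'
    rw [e', Over.comp_left, Over.comp_left]
    infer_instance
  haveI : IsLocallyNoetherian (Bar A).left :=
    inferInstanceAs (IsLocallyNoetherian (Spec (CommRingCat.of (AlgebraicClosure (IsLocalRing.ResidueField A)))))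
  haveI := LocallyOfFiniteType.isLocallyNoetherian (Red.bc t X).hom
  haveI : LocallyConnectedSpace ↥(pullback X.hom t) :=
    Groth.SGA7.IdComponent.locallyConnectedSpace (X := (Red.bc t X).left)
  haveI : UniversallyOpen fX := MorphismProperty.pullback_fst _ _ ‹UniversallyOpen t›
  obtain ⟨x', rfl⟩ := fX.surjective x
  obtain ⟨y', rfl⟩ := fX.surjective y
  rw [← Groth.GrpschAbsch.image_connectedComponent_of_isOpenMap_isClosedMap fX fX.continuous fX.isOpenMap fX.isClosedMap,
    ← Groth.GrpschAbsch.image_connectedComponent_of_isOpenMap_isClosedMap fX fX.continuous fX.isOpenMap fX.isClosedMap,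
    dim_image_eq_of_isIntegralHom fX isClosed_connectedComponent,
    dim_image_eq_of_isIntegralHom fX isClosed_connectedComponent]
  exact dim_component_eq (a.bc t) x' y'

end Artin

end Groth.ArtinQuot
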