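import Groth.Agent.ArtinQuot.Translate
import Groth.Agent.AlgSpThick.Scheme
import Groth.Agent.AlgSpBasic.DenseSchemeQS
import Groth.Agent.AlgSpBasic.DimZeroSpace
import Groth.Agent.DescentBase.UnivOpenField
import Groth.Agent.Agf.Quot
import Mathlib.AlgebraicGeometry.AlgClosed.Basic

/-!
Over a local artinian ring the quotient of a group scheme by a flat closed subgroup is a scheme.
-/

set_option autoImplicit false
set_option linter.style.haveILetI false
set_option backward.isDefEq.respectTransparency.types false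

universe u

open CategoryTheory MonoidalCategory CartesianMonoidalCategory MonObj GrpObj AlgebraicGeometry
  CategoryTheory.Limits TopologicalSpace AlgSp Groth.AlgSpBasic

namespace Groth.ArtinQuot

/-- The points of a finite closed subset of a Jacobson space are closed. -/
theorem isClosed_singleton_of_finite {α : Type*} [TopologicalSpace α] [JacobsonSpace α] {s : Set α}
    (hf : s.Finite) (hc : IsClosed s) {x : α} (hx : x ∈ s) : IsClosed ({x} : Set α) := by
  have h1 : IsClosed (s ∩ closedPoints α) := by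
    rw [← Set.biUnion_of_singleton (s ∩ closedPoints α)]
    exact (hf.subset Set.inter_subset_left).isClosed_biUnion fun y hy => hy.2
  by_contra hn
  have hne : (s ∩ (s ∩ closedPoints α)ᶜ).Nonempty := ⟨x, hx, fun h => hn h.2⟩
  obtain ⟨y, hy, hyc⟩ := nonempty_inter_closedPoints hne
    (hc.isLocallyClosed.inter h1.isOpen_compl.isLocallyClosed)
  exact hy.2 ⟨hy.1, hyc⟩

/-- A scheme contains a dense open in which all finite sets have affine neighbourhoods. -/
theorem exists_dense_finite_affine (T : Scheme.{u}) : ∃ V : T.Opens, Dense (V : Set T) ∧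
    ∀ E : Set T, E.Finite → E ⊆ V → ∃ O : T.Opens, IsAffineOpen O ∧ E ⊆ O := by
  classical
  obtain ⟨M, hM⟩ := zorn_subset
    {s : Set T.Opens | (∀ U ∈ s, IsAffineOpen U) ∧ s.Pairwise Disjoint}
    fun c hc hchain => by
      refine ⟨⋃₀ c, ⟨?_, ?_⟩, fun s hs => Set.subset_sUnion_of_mem hs⟩
      · rintro U ⟨s, hs, hU⟩
        exact (hc hs).1 U hU
      · rw [Set.pairwise_sUnion hchain.directedOn]
        exact fun s hs => (hc hs).2
  refine ⟨sSup M, ?_, fun E hE hEV => ?_⟩
  · rw [dense_iff_inter_open]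
    intro O hO ⟨x, hx⟩
    by_contra hn
    obtain ⟨D, hD, hxD, hDO⟩ := exists_isAffineOpen_mem_and_subset (X := T) (x := x)
      (U := ⟨O, hO⟩) hx
    have hdisj : ∀ U ∈ M, Disjoint D U := fun U hU => by
      rw [← Opens.coe_disjoint, Set.disjoint_left]
      exact fun y hy hy' => hn ⟨y, hDO hy, (le_sSup hU : U ≤ sSup M) hy'⟩
    have hins : insert D M ⊆ M := hM.2 ⟨fun U hU => hU.elim (fun h => h ▸ hD) (hM.1.1 U),
      hM.1.2.insert fun U hU _ => ⟨hdisj U hU, (hdisj U hU).symm⟩⟩ (Set.subset_insert _ _)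
    exact hn ⟨x, hx, (le_sSup (hins (Set.mem_insert D M)) : D ≤ sSup M) hxD⟩
  · have hch : ∀ x ∈ E, ∃ U ∈ M, x ∈ U := fun x hx => by
      simpa using (hEV hx : x ∈ sSup M)
    choose U hUM hxU using hch
    let s : Set T.Opens := Set.range fun x : E => U x.1 x.2
    have : Finite E := hE.to_subtype
    have hs : s ⊆ M := by rintro _ ⟨x, rfl⟩; exact hUM _ _
    refine ⟨⨆ V ∈ s, V, IsAffineOpen.biSup_of_disjoint (Set.finite_range _)
      (fun V hV => hM.1.1 V (hs hV)) (hM.1.2.mono hs), fun x hx => ?_⟩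
    exact (le_biSup (fun V : T.Opens => V) (show U x hx ∈ s from ⟨⟨x, hx⟩, rfl⟩) :
      U x hx ≤ ⨆ V ∈ s, V) (hxU x hx)

section Local

variable (A : Type u) [CommRing A] [IsArtinianRing A] [IsLocalRing A]

/-- The closed point as a scheme over the base. -/
noncomputable abbrev Kap : Over (Spec (CommRingCat.of A)) :=
  Over.mk (Spec.map (CommRingCat.ofHom (IsLocalRing.residue A)))

/-- A geometric closed point as a scheme over the base. -/
noncomputable abbrev Bar : Over (Spec (CommRingCat.of A)) :=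
  Over.mk (Spec.map (CommRingCat.ofHom ((algebraMap (IsLocalRing.ResidueField A)
    (AlgebraicClosure (IsLocalRing.ResidueField A))).comp (IsLocalRing.residue A))))

/-- The geometric point over the closed point. -/
noncomputable abbrev barToKap : Bar A ⟶ Kap A :=
  Over.homMk (Spec.map (CommRingCat.ofHom (algebraMap (IsLocalRing.ResidueField A)
    (AlgebraicClosure (IsLocalRing.ResidueField A))))) (by
    show Spec.map _ ≫ Spec.map _ = Spec.map _
    rw [← Spec.map_comp]; rfl)

theorem discrete_base : DiscreteTopology ↥(Spec (CommRingCat.of A)) :=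
  inferInstanceAs (DiscreteTopology (PrimeSpectrum A))

theorem isClosedImmersion_kap : IsClosedImmersion (Kap A).hom :=
  IsClosedImmersion.spec_of_surjective _ IsLocalRing.residue_surjective

theorem surjective_kap : Surjective (Kap A).hom :=
  ⟨fun x => ⟨IsLocalRing.closedPoint (IsLocalRing.ResidueField A),
    Subsingleton.elim (α := PrimeSpectrum A) _ _⟩⟩

theorem isIntegralHom_barToKap : IsIntegralHom (barToKap A).left :=
  (IsIntegralHom.SpecMap_iff).2 (algebraMap_isIntegral_iff.mpr inferInstance)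

theorem surjective_barToKap : Surjective (barToKap A).left :=
  ⟨fun x => ⟨IsLocalRing.closedPoint (AlgebraicClosure (IsLocalRing.ResidueField A)),
    Subsingleton.elim (α := PrimeSpectrum (IsLocalRing.ResidueField A)) _ _⟩⟩

variable {A}

theorem lft_snd (V K : Over (Spec (CommRingCat.of A))) [LocallyOfFiniteType V.hom] :
    LocallyOfFiniteType (snd V K).left :=
  MorphismProperty.of_isPullback (IsPullback.of_hasPullback V.hom K.hom)
    ‹LocallyOfFiniteType V.hom›

theorem isPullback_whisker (V : Over (Spec (CommRingCat.of A))) {K K' : Over (Spec (CommRingCat.of A))}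
    (q : K ⟶ K') : IsPullback (V ◁ q).left (snd V K).left (snd V K').left q.left :=
  (Groth.Agf.isPullback_whiskerLeft_snd V q).map (Over.forget _)

/-- Closed points of the geometric fibre are rational. -/
theorem exists_section (V : Over (Spec (CommRingCat.of A))) [LocallyOfFiniteType V.hom]
    {y : (V ⊗ Bar A).left} (hy : IsClosed ({y} : Set (V ⊗ Bar A).left)) :
    ∃ s : Bar A ⟶ V ⊗ Bar A, s ≫ snd V (Bar A) = 𝟙 _ ∧ ∀ p, s.left p = y := by
  haveI := lft_snd V (Bar A)
  let K := AlgebraicClosure (IsLocalRing.ResidueField A)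
  let f : (V ⊗ Bar A).left ⟶ Spec (CommRingCat.of K) := (snd V (Bar A)).left
  have hw : pointOfClosedPoint f y hy ≫ (V ⊗ Bar A).hom = (Bar A).hom := by
    rw [← Over.w (snd V (Bar A))]
    show pointOfClosedPoint f y hy ≫ f ≫ (Bar A).hom = _
    rw [pointOfClosedPoint_comp_assoc]
  refine ⟨Over.homMk (pointOfClosedPoint f y hy) hw, ?_, fun p => ?_⟩
  · ext1
    exact pointOfClosedPoint_comp f y hy
  · exact pointOfClosedPoint_apply f y hy p

variable {F G : Over (Spec (CommRingCat.of A))} [GrpObj F] [GrpObj G] [LocallyOfFiniteType G.hom]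

/-- The points of the geometric fibre over a closed point are finitely many closed points. -/
theorem finite_fibre_bar {g : (G ⊗ Kap A).left} (hg : IsClosed ({g} : Set (G ⊗ Kap A).left)) :
    ((G ◁ barToKap A).left ⁻¹' {g}).Finite := by
  haveI := lft_snd G (Kap A)
  have : JacobsonSpace (G ⊗ Kap A).left :=
    LocallyOfFiniteType.jacobsonSpace (X := (G ⊗ Kap A).left)
      (Y := Spec (CommRingCat.of (IsLocalRing.ResidueField A))) (snd G (Kap A)).left
  let i := (G ⊗ Kap A).left.fromSpecResidueField g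
  haveI : IsClosedImmersion i := isClosed_singleton_iff_isClosedImmersion.1 hg
  let c : Spec ((G ⊗ Kap A).left.residueField g) ⟶ Spec (CommRingCat.of (IsLocalRing.ResidueField A)) :=
    i ≫ (snd G (Kap A)).left
  haveI : LocallyOfFiniteType c := inferInstance
  haveI : IsFinite c := isFinite_iff_locallyOfFiniteType_of_jacobsonSpace.2 inferInstance
  let P := pullback (G ◁ barToKap A).left i
  have hP : IsPullback (pullback.snd (G ◁ barToKap A).left i)
      (pullback.fst (G ◁ barToKap A).left i ≫ (snd G (Bar A)).left) c (barToKap A).left :=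
    (IsPullback.of_hasPullback (G ◁ barToKap A).left i).flip.paste_vert
      (isPullback_whisker G (barToKap A))
  haveI : IsFinite (pullback.fst (G ◁ barToKap A).left i ≫ (snd G (Bar A)).left) :=
    MorphismProperty.of_isPullback hP ‹IsFinite c›
  have hfin : (Set.univ : Set ↥P).Finite := by
    refine (((pullback.fst (G ◁ barToKap A).left i ≫ (snd G (Bar A)).left)).finite_preimage_singleton
      (IsLocalRing.closedPoint (AlgebraicClosure (IsLocalRing.ResidueField A)))).subset fun x _ => ?_
    exact Subsingleton.elim (α := PrimeSpectrum (AlgebraicClosure (IsLocalRing.ResidueField A))) _ _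
  have hrange := Scheme.Pullback.range_fst (f := (G ◁ barToKap A).left) (g := i)
  rw [show Set.range i = {g} from Scheme.range_fromSpecResidueField _] at hrange
  rw [← hrange, ← Set.image_univ]
  exact hfin.image _

/-- A closed point of the special fibre has finite residue extension; a geometric point through it
factors. -/
theorem exists_point_field {s : Bar A ⟶ G ⊗ Kap A} (hs : s ≫ snd G (Kap A) = barToKap A) :
    ∃ (K : Over (Spec (CommRingCat.of A))) (q : K ⟶ Kap A) (h : K ⟶ G) (l : Bar A ⟶ K),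
      IsFinite q.left ∧ Flat q.left ∧ LocallyOfFinitePresentation q.left ∧ Surjective q.left ∧
      Surjective l.left ∧ l ≫ q = barToKap A ∧ l ≫ h = s ≫ fst G (Kap A) := by
  haveI := lft_snd G (Kap A)
  haveI := isIntegralHom_barToKap A
  have hint : IsIntegralHom (s.left ≫ (snd G (Kap A)).left) := by
    rw [← Over.comp_left, hs]; infer_instance
  have : JacobsonSpace (G ⊗ Kap A).left :=
    LocallyOfFiniteType.jacobsonSpace (X := (G ⊗ Kap A).left)
      (Y := Spec (CommRingCat.of (IsLocalRing.ResidueField A))) (snd G (Kap A)).left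
  let Kb := AlgebraicClosure (IsLocalRing.ResidueField A)
  let x : Spec (CommRingCat.of Kb) ⟶ (G ⊗ Kap A).left := s.left
  let p := x (IsLocalRing.closedPoint Kb)
  have hp : IsClosed ({p} : Set (G ⊗ Kap A).left) := by
    have h1 : {p} = (G ◁ barToKap A).left ''
        {(lift (s ≫ fst G (Kap A)) (𝟙 (Bar A))).left (IsLocalRing.closedPoint Kb)} := by
      rw [Set.image_singleton, ← Scheme.Hom.comp_apply, ← Over.comp_left]
      congr 2
      have : lift (s ≫ fst G (Kap A)) (𝟙 (Bar A)) ≫ G ◁ barToKap A = s := by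
        apply CartesianMonoidalCategory.hom_ext <;> simp [hs]
      rw [this]
    haveI : IsIntegralHom (G ◁ barToKap A).left :=
      MorphismProperty.of_isPullback (isPullback_whisker G (barToKap A)).flip ‹_›
    rw [h1]
    refine (G ◁ barToKap A).left.isClosedMap _ ?_
    let t : Spec (CommRingCat.of Kb) ⟶ (G ⊗ Bar A).left := (lift (s ≫ fst G (Kap A)) (𝟙 (Bar A))).left
    haveI := lft_snd G (Bar A)
    have ht : t ≫ (snd G (Bar A)).left = 𝟙 _ := by
      show (lift (s ≫ fst G (Kap A)) (𝟙 (Bar A))).left ≫ _ = _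
      rw [← Over.comp_left, lift_snd]; rfl
    exact ((pointEquivClosedPoint (snd G (Bar A)).left) ⟨t, ht⟩).2
  let i := (G ⊗ Kap A).left.fromSpecResidueField p
  haveI : IsClosedImmersion i := isClosed_singleton_iff_isClosedImmersion.1 hp
  let c : Spec ((G ⊗ Kap A).left.residueField p) ⟶ Spec (CommRingCat.of (IsLocalRing.ResidueField A)) :=
    i ≫ (snd G (Kap A)).left
  haveI : IsFinite c := isFinite_iff_locallyOfFiniteType_of_jacobsonSpace.2 inferInstance
  let K : Over (Spec (CommRingCat.of A)) := Over.mk (c ≫ (Kap A).hom)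
  let q : K ⟶ Kap A := Over.homMk c rfl
  let m : K ⟶ G ⊗ Kap A := Over.homMk i (by
    show i ≫ _ = (i ≫ (snd G (Kap A)).left) ≫ (Kap A).hom
    rw [Category.assoc, Over.w])
  let lf := Spec.map (Scheme.descResidueField (Scheme.stalkClosedPointTo x))
  have hlf : lf ≫ i = x := Scheme.descResidueField_stalkClosedPointTo_fromSpecResidueField _ _ _
  let l : Bar A ⟶ K := Over.homMk lf (by
    show lf ≫ (i ≫ (snd G (Kap A)).left) ≫ (Kap A).hom = _
    rw [Category.assoc, reassoc_of% hlf, ← Over.comp_left_assoc, hs]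
    exact Over.w (barToKap A))
  have hlm : l ≫ m = s := Over.OverMorphism.ext hlf
  refine ⟨K, q, m ≫ fst G (Kap A), l, ‹IsFinite c›, ?_, ?_, ?_, ?_, ?_, by rw [← Category.assoc, hlm]⟩
  · show Flat c
    infer_instance
  · show LocallyOfFinitePresentation c
    infer_instance
  · exact ⟨fun z => ⟨IsLocalRing.closedPoint _,
      Subsingleton.elim (α := PrimeSpectrum (IsLocalRing.ResidueField A)) _ _⟩⟩
  · exact ⟨fun z => ⟨IsLocalRing.closedPoint Kb,
      Subsingleton.elim (α := PrimeSpectrum ((G ⊗ Kap A).left.residueField p)) _ _⟩⟩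
  · rw [show q = m ≫ snd G (Kap A) from Over.OverMorphism.ext rfl, ← Category.assoc, hlm, hs]

omit [GrpObj F] in
/-- Finitely many closed geometric points can be translated simultaneously into a dense open. -/
theorem exists_translate {P : Set G.left} (hPo : IsOpen P) (hPd : Dense P)
    {E : Set (G ⊗ Bar A).left} (hE : E.Finite)
    (hEc : ∀ y ∈ E, IsClosed ({y} : Set (G ⊗ Bar A).left)) :
    ∃ h : Bar A ⟶ G, ∀ y ∈ E, (fst G (Bar A)).left ((tr h).left y) ∈ P := by
  haveI := lft_snd G (Bar A)
  have : JacobsonSpace (G ⊗ Bar A).left :=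
    LocallyOfFiniteType.jacobsonSpace (X := (G ⊗ Bar A).left)
      (Y := Spec (CommRingCat.of (AlgebraicClosure (IsLocalRing.ResidueField A)))) (snd G (Bar A)).left
  haveI := discrete_base A
  have hopen : IsOpenMap (fst G (Bar A)).left := by
    haveI : UniversallyOpen (Bar A).hom := Groth.DescentBase.universallyOpen_of_discrete _
    haveI : UniversallyOpen (fst G (Bar A)).left :=
      MorphismProperty.of_isPullback (IsPullback.of_hasPullback G.hom (Bar A).hom).flip ‹_›
    exact (fst G (Bar A)).left.isOpenMap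
  let D : Set (G ⊗ Bar A).left := (fst G (Bar A)).left ⁻¹' P
  have hDd : Dense D := hPd.preimage hopen
  have hDo : IsOpen D := hPo.preimage (fst G (Bar A)).left.continuous
  have hch : ∀ y ∈ E, ∃ f : Bar A ⟶ G, ∀ p, (lift f (𝟙 _)).left p = y := fun y hy => by
    obtain ⟨s, hs, hsp⟩ := exists_section G (hEc y hy)
    refine ⟨s ≫ fst G (Bar A), fun p => ?_⟩
    rw [show lift (s ≫ fst G (Bar A)) (𝟙 (Bar A)) = s by
      apply CartesianMonoidalCategory.hom_ext <;> simp [hs]]
    exact hsp p
  choose f hf using hch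
  let lam : (Bar A ⟶ G) → (G ⊗ Bar A ⟶ G ⊗ Bar A) := fun a =>
    lift ((snd G (Bar A) ≫ a) * fst G (Bar A)) (snd G (Bar A))
  have hlam : ∀ a, lam a ≫ lam a⁻¹ = 𝟙 _ := fun a => by
    apply CartesianMonoidalCategory.hom_ext
    · simp [lam, MonObj.comp_mul, GrpObj.comp_inv]
    · simp [lam]
  have hiso : ∀ a, IsIso (lam a).left := fun a => by
    have h2 := hlam a⁻¹
    rw [_root_.inv_inv] at h2
    exact ((Over.forget _).mapIso ⟨lam a, lam a⁻¹, hlam a, h2⟩).isIso_hom
  have key : ∀ s : Finset E, IsOpen (⋂ y ∈ s, (lam (f y.1 y.2)).left ⁻¹' D) ∧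
      Dense (⋂ y ∈ s, (lam (f y.1 y.2)).left ⁻¹' D) := by
    classical
    intro s
    induction s using Finset.induction with
    | empty => simp
    | insert y s _ ih =>
      haveI := hiso (f y.1 y.2)
      rw [Finset.set_biInter_insert]
      have hd : Dense ((lam (f y.1 y.2)).left ⁻¹' D) :=
        hDd.preimage (lam (f y.1 y.2)).left.homeomorph.isOpenMap
      exact ⟨(hDo.preimage (lam (f y.1 y.2)).left.continuous).inter ih.1,
        hd.inter_of_isOpen_left ih.2 (hDo.preimage (lam (f y.1 y.2)).left.continuous)⟩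
  haveI : Finite E := hE.to_subtype
  haveI := Fintype.ofFinite E
  haveI : Nonempty (G ⊗ Bar A).left :=
    ⟨(lift (1 : Bar A ⟶ G) (𝟙 _)).left
      (IsLocalRing.closedPoint (AlgebraicClosure (IsLocalRing.ResidueField A)))⟩
  obtain ⟨hIo, hId⟩ := key Finset.univ
  obtain ⟨z, hz, hzc⟩ := nonempty_inter_closedPoints hId.nonempty hIo.isLocallyClosed
  obtain ⟨σ, hσ, hσz⟩ := exists_section G hzc
  refine ⟨σ ≫ fst G (Bar A), fun y hy => ?_⟩
  have hz' := Set.mem_iInter₂.1 hz ⟨y, hy⟩ (Finset.mem_univ _)
  have e : lift (f y hy) (𝟙 _) ≫ tr (σ ≫ fst G (Bar A)) = σ ≫ lam (f y hy) := by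
    apply CartesianMonoidalCategory.hom_ext
    · simp only [tr, lam, Category.assoc, lift_fst, MonObj.comp_mul, lift_snd_assoc,
        Category.id_comp]
      rw [← Category.assoc σ (snd G (Bar A)), hσ, Category.id_comp]
    · simp only [tr, lam, Category.assoc, lift_snd, hσ]
  let pt : (Bar A).left := IsLocalRing.closedPoint (AlgebraicClosure (IsLocalRing.ResidueField A))
  have e' := congr(($e).left pt)
  simp only [Over.comp_left, Scheme.Hom.comp_apply, hf y hy pt, hσz pt] at e'
  rw [e']
  exact hz'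

variable (u : F ⟶ G) [IsMonHom u] {X : Sp (Spec (CommRingCat.of A))}
  {π : (yon (Spec (CommRingCat.of A))).obj G ⟶ X}
  (sq : IsPullback ((yon _).map (trl u)) ((yon _).map (snd F G)) π π)

include sq in
omit [GrpObj F] [IsMonHom u] in
/-- The points of the special fibre of the quotient under closed points are schematic. -/
theorem isSchematicPt_kap (hX : IsAlgSpace X) (hqs : IsQuasiSeparatedSp X)
    [Sheaf.IsLocallySurjective π] (hπf : RepWith @Flat π)
    (hπl : RepWith @LocallyOfFinitePresentation π) (hπs : RepWith @Surjective π)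
    {g : (G ⊗ Kap A).left} (hg : IsClosed ({g} : Set (G ⊗ Kap A).left)) :
    IsSchematicPt (X ⨯ (yon _).obj (Kap A)) (AlgSp.Points.ofPt (prodK π (Kap A)) g) := by
  -- a dense schematic open with affine neighbourhoods of finite sets
  obtain ⟨X', j, hj, hrep, hr⟩ := exists_schematic_openSub (⟨X, hX⟩ : Space _)
  obtain ⟨W, ⟨eW⟩⟩ := exists_iso_of_representable X' hrep
  let a : (yon _).obj W ⟶ X := eW.hom ≫ j.hom
  have ha : RepWith @IsOpenImmersion a := repWith_comp (repWith_isIso _) hj
  have hdense : Dense (Set.range (AlgSp.Points.ofPt a)) := by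
    rw [← Groth.AlgSp2.SchematicFinLocFree.range_map_yon]
    have : Set.range (AlgSp.Points.map a) = Set.range (AlgSp.Points.map j.hom) := by
      refine Set.Subset.antisymm ?_ ?_
      · rintro _ ⟨z, rfl⟩
        exact ⟨AlgSp.Points.map eW.hom z, (AlgSp.Points.map_comp _ _ _).symm⟩
      · rintro _ ⟨z, rfl⟩
        exact ⟨AlgSp.Points.map eW.inv z, by rw [← AlgSp.Points.map_comp, Iso.inv_hom_id_assoc]⟩
    rw [this, hr]
    exact (dense_codimZero hX).mono fun x hx => isSchematicPt_of_qs hX hqs hx
  obtain ⟨V, hVd, hV⟩ := exists_dense_finite_affine W.left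
  have hao : IsOpenMap (AlgSp.Points.ofPt a) :=
    isOpenMap_ofPt_of_repWith (fun _ _ φ (h : IsOpenImmersion φ) => φ.isOpenEmbedding.isOpenMap) ha
  let P : Set G.left := AlgSp.Points.ofPt π ⁻¹' (AlgSp.Points.ofPt a '' V)
  have hPo : IsOpen P := (hao _ V.2).preimage (AlgSp.Points.continuous_ofPt _)
  have hsub : Set.range (AlgSp.Points.ofPt a) ⊆ closure (AlgSp.Points.ofPt a '' V) := by
    rintro _ ⟨w, rfl⟩
    exact image_closure_subset_closure_image (AlgSp.Points.continuous_ofPt a) ⟨w, hVd w, rfl⟩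
  have hd : Dense (AlgSp.Points.ofPt a '' (V : Set W.left)) := fun x =>
    closure_minimal hsub isClosed_closure (hdense x)
  have hPd : Dense P := hd.preimage (isOpenMap_ofPt_of_repWith (P := @Flat ⊓ @LocallyOfFinitePresentation)
      (fun _ _ φ h => by
        haveI : Flat φ := h.1
        haveI : LocallyOfFinitePresentation φ := h.2
        exact φ.isOpenMap) (repWith_inf_iff.2 ⟨hπf, hπl⟩))
  -- the translation
  haveI := lft_snd G (Bar A)
  have : JacobsonSpace (G ⊗ Bar A).left :=
    LocallyOfFiniteType.jacobsonSpace (X := (G ⊗ Bar A).left)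
      (Y := Spec (CommRingCat.of (AlgebraicClosure (IsLocalRing.ResidueField A)))) (snd G (Bar A)).left
  have hfin := finite_fibre_bar (G := G) hg
  have hclosed : IsClosed ((G ◁ barToKap A).left ⁻¹' {g}) :=
    hg.preimage (G ◁ barToKap A).left.continuous
  obtain ⟨hb, hhb⟩ := exists_translate hPo hPd hfin
    fun y hy => isClosed_singleton_of_finite hfin hclosed hy
  obtain ⟨K, q, h, l, hqfin, hqflat, hqlfp, hqs', hls, hlq, hlh⟩ :=
    exists_point_field (G := G) (s := lift hb (barToKap A)) (lift_snd _ _)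
  rw [lift_fst] at hlh
  obtain ⟨σ, hσ⟩ := exists_translation u sq hπf.rep h
  -- the fibre and its translate
  let aK := prodK a K
  have haK : RepWith @IsOpenImmersion aK := repWith_of_isPullback (isPullback_prodK a K) ha
  haveI : IsFinite q.left := hqfin
  haveI : IsFinite (G ◁ q).left :=
    MorphismProperty.of_isPullback (isPullback_whisker G q).flip hqfin
  have hEfin : ((G ◁ q).left ⁻¹' {g}).Finite := (G ◁ q).left.finite_preimage_singleton g
  have hin : ∀ v ∈ (G ◁ q).left ⁻¹' {g}, ∃ w : (W ⊗ K).left, (fst W K).left w ∈ V ∧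
      AlgSp.Points.ofPt aK w = AlgSp.Points.map σ.hom (AlgSp.Points.ofPt (prodK π K) v) := by
    intro v hv
    haveI : Surjective (G ◁ l).left :=
      MorphismProperty.of_isPullback (isPullback_whisker G l).flip hls
    obtain ⟨y, hy⟩ := (G ◁ l).left.surjective v
    have hy' : y ∈ (G ◁ barToKap A).left ⁻¹' {g} := by
      show _ = g
      rw [← hlq, MonoidalCategory.whiskerLeft_comp, Over.comp_left, Scheme.Hom.comp_apply, hy]
      exact hv
    obtain ⟨w₀, hw₀, e₀⟩ := hhb y hy'
    have e : (G ◁ l) ≫ tr h ≫ fst G K = tr hb ≫ fst G (Bar A) := by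
      rw [comp_tr_fst, tr, lift_fst, whiskerLeft_fst, ← Category.assoc (G ◁ l), whiskerLeft_snd,
        Category.assoc, hlh]
    have hpt : (fst G K).left ((tr h).left v) = (fst G (Bar A)).left ((tr hb).left y) := by
      rw [← hy]
      exact congr(($e).left y)
    have hσv : AlgSp.Points.map σ.hom (AlgSp.Points.ofPt (prodK π K) v) =
        AlgSp.Points.ofPt (prodK π K) ((tr h).left v) := by
      rw [AlgSp.Points.map_ofPt, hσ, ofPt_comp_yon]
    have hf : AlgSp.Points.map Limits.prod.fst (AlgSp.Points.ofPt (prodK π K) ((tr h).left v)) =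
        AlgSp.Points.ofPt a w₀ := by
      rw [AlgSp.Points.map_ofPt, prodK_fst, ofPt_comp_yon, hpt, e₀]
    obtain ⟨w, hw1, hw2⟩ := (map_eq_ofPt_iff (isPullback_prodK a K).flip _ w₀).1 hf
    refine ⟨w, ?_, by rw [hσv, hw1]⟩
    rw [hw2]
    exact hw₀
  choose w hwV hw using hin
  haveI : Finite ↑((G ◁ q).left ⁻¹' {g}) := hEfin.to_subtype
  obtain ⟨O, hO, hEO⟩ := hV (Set.range fun v : ↑((G ◁ q).left ⁻¹' {g}) => (fst W K).left (w v.1 v.2))
    (Set.finite_range _) (by rintro _ ⟨v, rfl⟩; exact hwV _ _)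
  haveI : IsAffineHom K.hom := by
    haveI := isClosedImmersion_kap A
    rw [← Over.w q]; infer_instance
  haveI : IsAffineHom (fst W K).left :=
    MorphismProperty.of_isPullback (IsPullback.of_hasPullback W.hom K.hom).flip ‹IsAffineHom K.hom›
  let O' := (fst W K).left ⁻¹ᵁ O
  have hO' : IsAffineOpen O' := hO.preimage _
  let U : Over (Spec (CommRingCat.of A)) := Over.mk (O'.ι ≫ (W ⊗ K).hom)
  let iU : U ⟶ W ⊗ K := Over.homMk O'.ι rfl
  haveI : IsAffine U.left := hO'
  haveI : IsIso σ.inv := inferInstance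
  have haU : RepWith @IsOpenImmersion ((yon _).map iU ≫ aK ≫ σ.inv) :=
    repWith_comp ((repWith_yon_map_iff _ _).2 (inferInstanceAs (IsOpenImmersion O'.ι)))
      (repWith_comp haK (repWith_isIso _))
  refine Groth.AlgSp2.SchematicFinLocFree.isSchematicPt_of_affine
    (f := mapK X q) (repWith_mapK X q _ ⟨hqfin, hqflat, hqlfp⟩) (repWith_mapK X q _ hqs') haU ?_
  intro z hz
  obtain ⟨v, hv₁, hv₂⟩ := (map_eq_ofPt_iff (isPullback_mapK π q).flip z g).1 hz
  have hwO : w v hv₂ ∈ O' := hEO ⟨⟨v, hv₂⟩, rfl⟩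
  refine ⟨⟨w v hv₂, hwO⟩, ?_⟩
  rw [ofPt_comp_yon]
  show AlgSp.Points.ofPt (aK ≫ σ.inv) (w v hv₂) = z
  rw [← AlgSp.Points.map_ofPt, hw v hv₂, ← AlgSp.Points.map_comp, Iso.hom_inv_id, hv₁]
  exact AlgSp.Points.map_id _

end Local

end Groth.ArtinQuot
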