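import Groth.Agent.ArtinQuot.Image
import Groth.Agent.AlgGrp1.AffineKernel
import Groth.Agent.AlgGrp1.Antiaffine
import Groth.Agent.PropsBasic2.Reduced
import Groth.Agent.DescentBase.UnivOpenField

/-!
Open homomorphisms of group schemes over an artinian local ring are universally open.
-/

set_option autoImplicit false
set_option backward.isDefEq.respectTransparency false

universe u

open CategoryTheory CategoryTheory.Limits AlgebraicGeometry MonoidalCategory CartesianMonoidalCategory MonObj
  TopologicalSpace

namespace Groth.ArtinQuot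

section Field

variable {k : Type u} [Field k] [IsAlgClosed k] {G H : Over (Spec (CommRingCat.of k))}
  [GrpObj G] [GrpObj H] [LocallyOfFiniteType G.hom] [LocallyOfFiniteType H.hom]
  (u : G ⟶ H) [IsMonHom u]

omit [GrpObj G] [IsMonHom u] in
/-- A morphism whose image contains a nonempty open is universally open on a nonempty open. -/
theorem exists_universallyOpen_open (W : G.left.Opens) (hW : IsCompact (W : Set G.left))
    (hne : (W : Set G.left).Nonempty) (ho : IsOpen (u.left '' (W : Set G.left))) :
    ∃ O : G.left.Opens, (O : Set G.left).Nonempty ∧ UniversallyOpen (O.ι ≫ u.left) := by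
  have : CompactSpace W.toScheme := isCompact_iff_compactSpace.1 hW
  have := Groth.AlgGrp1.quasiSeparated_of_locallyOfFiniteType H
  let g := W.ι ≫ u.left
  have : LocallyOfFiniteType (g ≫ H.hom) := by
    simp only [g, Category.assoc, Over.w u]; infer_instance
  have : LocallyOfFiniteType g := locallyOfFiniteType_of_comp g H.hom
  have : QuasiCompact (g ≫ H.hom) := inferInstance
  have : QuasiCompact g := QuasiCompact.of_comp g H.hom
  obtain ⟨x, hx⟩ := hne
  obtain ⟨V, hV, hyV, hVsub⟩ := exists_isAffineOpen_mem_and_subset (x := u.left x)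
    (U := ⟨u.left '' (W : Set G.left) ∩ connectedComponent (u.left x),
      ho.inter (Groth.GrpschAbsch.isOpen_connectedComponent' H _)⟩) ⟨⟨x, hx, rfl⟩, mem_connectedComponent⟩
  have : IsAffine V.toScheme := hV
  let r := V.toScheme.nilradical.subschemeι
  have : IsReduced V.toScheme.nilradical.subscheme :=
    (Groth.PropsBasic2.isReduced_subscheme_iff_eq_nilradical _ V.toScheme.support_nilradical).2 rfl
  have : Surjective r := ⟨by
    rw [← Set.range_eq_univ, Scheme.IdealSheafData.range_subschemeι, Scheme.support_nilradical]; rfl⟩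
  have : IsAffine V.toScheme.nilradical.subscheme := isAffine_of_isAffineHom r
  have : IrreducibleSpace V.toScheme := by
    refine Subtype.irreducibleSpace ⟨⟨_, hyV⟩, ?_⟩
    exact (Groth.GrpschAbsch.isIrreducible_connectedComponent H (u.left x)).2.open_subset V.2
      fun z hz => (hVsub hz).2
  have : IrreducibleSpace V.toScheme.nilradical.subscheme := by
    let e := r.isClosedEmbedding.isEmbedding.toHomeomorphOfSurjective r.surjective
    exact e.symm.surjective.irreducibleSpace e.symm.continuous
  have : IsIntegral V.toScheme.nilradical.subscheme := isIntegral_of_irreducibleSpace_of_isReduced _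
  let f := pullback.snd (g ∣_ V) r
  have : CompactSpace V.toScheme.nilradical.subscheme := inferInstance
  have : CompactSpace ↥(pullback (g ∣_ V) r) := QuasiCompact.compactSpace_of_compactSpace f
  obtain ⟨V', hV'ne, hV'⟩ := Groth.AlgGrp1.exists_flat_restrict_affine f
  let V'' : V.toScheme.Opens := ⟨r '' (V' : Set _),
    (r.isClosedEmbedding.isEmbedding.toHomeomorphOfSurjective r.surjective).isOpenMap _ V'.2⟩
  have hpre : r ⁻¹ᵁ V'' = V' := by
    ext z
    exact ⟨fun ⟨w, hw, e⟩ => r.isClosedEmbedding.injective e ▸ hw, fun hz => ⟨z, hz, rfl⟩⟩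
  have : IsLocallyNoetherian V.toScheme := by
    have := LocallyOfFiniteType.isLocallyNoetherian H.hom
    exact isLocallyNoetherian_of_isOpenImmersion V.ι
  have : IsLocallyNoetherian V.toScheme.nilradical.subscheme :=
    LocallyOfFiniteType.isLocallyNoetherian r
  have : Flat (f ∣_ (r ⁻¹ᵁ V'')) := by rw [hpre]; exact hV'
  have : IsLocallyNoetherian (r ⁻¹ᵁ V'').toScheme :=
    isLocallyNoetherian_of_isOpenImmersion (r ⁻¹ᵁ V'').ι
  have : LocallyOfFiniteType (f ∣_ (r ⁻¹ᵁ V'')) :=
    IsZariskiLocalAtTarget.restrict (inferInstanceAs (LocallyOfFiniteType f)) _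
  have hfo : UniversallyOpen (f ∣_ (r ⁻¹ᵁ V'')) := inferInstance
  let g' := (g ∣_ V) ∣_ V''
  let e := r ∣_ V''
  have : Surjective e := IsZariskiLocalAtTarget.restrict (inferInstanceAs (Surjective r)) _
  have : IsClosedImmersion e := IsZariskiLocalAtTarget.restrict (inferInstanceAs (IsClosedImmersion r)) _
  have : UniversallyOpen (pullback.snd g' e) := by
    have P1 := (IsPullback.of_hasPullback g' e).paste_horiz (isPullback_morphismRestrict (g ∣_ V) V'').flip
    rw [morphismRestrict_ι] at P1
    let l : pullback g' e ⟶ pullback (g ∣_ V) r :=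
      pullback.lift (pullback.fst g' e ≫ ((g ∣_ V) ⁻¹ᵁ V'').ι) (pullback.snd g' e ≫ (r ⁻¹ᵁ V'').ι)
        (by rw [P1.w, Category.assoc])
    have P2 : IsPullback l (pullback.snd g' e) f (r ⁻¹ᵁ V'').ι := by
      refine IsPullback.of_right ?_ (pullback.lift_snd _ _ _) (IsPullback.of_hasPullback (g ∣_ V) r)
      rw [pullback.lift_fst]
      exact P1
    have P3 := (isPullback_morphismRestrict f (r ⁻¹ᵁ V'')).flip
    rw [← P2.isoIsPullback_hom_snd _ _ P3]
    exact MorphismProperty.comp_mem _ _ _ inferInstance hfo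
  have : UniversallyOpen g' := Groth.DescentBase.universallyOpen_of_surjective_universallyClosed g' e
  let j := ((g ∣_ V) ⁻¹ᵁ V'').ι ≫ (g ⁻¹ᵁ V).ι ≫ W.ι
  have hju : j ≫ u.left = g' ≫ V''.ι ≫ V.ι := by
    show _ = ((g ∣_ V) ∣_ V'') ≫ V''.ι ≫ V.ι
    rw [← Category.assoc ((g ∣_ V) ∣_ V''), morphismRestrict_ι]
    simp only [Category.assoc]
    rw [morphismRestrict_ι]
    simp only [j, g, Category.assoc]
  refine ⟨j.opensRange, ?_, ?_⟩
  · obtain ⟨z, hz⟩ := hV'ne
    obtain ⟨w, hwW, hw⟩ := (hVsub (r z).2).1
    have hwV : (⟨w, hwW⟩ : W.toScheme) ∈ g ⁻¹ᵁ V := by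
      show u.left w ∈ V
      rw [hw]; exact (r z).2
    have hwV'' : (⟨⟨w, hwW⟩, hwV⟩ : (g ⁻¹ᵁ V).toScheme) ∈ (g ∣_ V) ⁻¹ᵁ V'' :=
      ⟨z, hz, Subtype.ext (by rw [morphismRestrict_base_coe]; exact hw.symm)⟩
    exact ⟨_, ⟨⟨⟨⟨w, hwW⟩, hwV⟩, hwV''⟩, rfl⟩⟩
  · have : UniversallyOpen (j ≫ u.left) := by rw [hju]; infer_instance
    rw [← IsOpenImmersion.isoOfRangeEq_inv_fac j j.opensRange.ι (by simp), Category.assoc]
    exact MorphismProperty.comp_mem _ _ _ inferInstance this

/-- A homomorphism over an algebraically closed field which maps some nonempty quasi-compact open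
onto an open set is universally open. -/
theorem universallyOpen_of_open_image (W : G.left.Opens) (hW : IsCompact (W : Set G.left))
    (hne : (W : Set G.left).Nonempty) (ho : IsOpen (u.left '' (W : Set G.left))) :
    UniversallyOpen u.left := by
  have := LocallyOfFiniteType.jacobsonSpace G.hom
  obtain ⟨O, hOne, hO⟩ := exists_universallyOpen_open u W hW hne ho
  obtain ⟨y, hyO, hyc⟩ := nonempty_inter_closedPoints hOne O.2.isLocallyClosed
  let S := {W : G.left.Opens // UniversallyOpen (W.ι ≫ u.left)}
  have hcov : IsOpenCover fun W : S => W.1 := by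
    refine Opens.ext (Set.eq_univ_of_forall fun a => ?_)
    by_contra ha
    obtain ⟨x, hx, hxc⟩ := nonempty_inter_closedPoints (Z := ((⨆ W : S, W.1 : G.left.Opens) : Set G.left)ᶜ)
      ⟨a, ha⟩ (⨆ W : S, W.1).2.isClosed_compl.isLocallyClosed
    let g := ratPt G hyc * (ratPt G hxc)⁻¹
    let φ := (Groth.AlgGrp1.translIso g).hom
    let ψ := (Groth.AlgGrp1.translIso (g ≫ u)).hom
    have : IsIso φ.left := inferInstanceAs (IsIso ((Over.forget _).map (Groth.AlgGrp1.translIso g).hom))
    have : IsIso ψ.left := inferInstanceAs (IsIso ((Over.forget _).map (Groth.AlgGrp1.translIso (g ≫ u)).hom))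
    have hcomm : φ.left ≫ u.left = u.left ≫ ψ.left := by
      rw [← Over.comp_left, ← Over.comp_left]; exact congrArg CommaMorphism.left (Groth.AlgGrp1.translIso_comp u g)
    have hop : UniversallyOpen ((φ.left ⁻¹ᵁ O).ι ≫ u.left) := by
      refine (MorphismProperty.cancel_right_of_respectsIso @UniversallyOpen _ ψ.left).1 ?_
      rw [Category.assoc, ← hcomm, ← Category.assoc, ← morphismRestrict_ι, Category.assoc]
      exact MorphismProperty.comp_mem _ _ _ inferInstance hO
    apply hx
    refine Opens.mem_iSup.2 ⟨⟨_, hop⟩, ?_⟩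
    show φ.left x ∈ O
    have h1 : ratPt G hxc ≫ φ = ratPt G hyc := by
      show ratPt G hxc ≫ ((toUnit G ≫ g) * 𝟙 G) = _
      rw [MonObj.comp_mul, Category.comp_id, ← Category.assoc,
        toUnit_unique (ratPt G hxc ≫ toUnit G) (𝟙 _), Category.id_comp, inv_mul_cancel_right]
    have h2 : φ.left x = y := by
      have := congr(($h1).left (IsLocalRing.closedPoint k))
      simp only [Over.comp_left, Scheme.Hom.comp_apply, ratPt_apply] at this
      exact this
    rw [h2]; exact hyO
  exact (IsZariskiLocalAtSource.iff_of_openCover (P := @UniversallyOpen)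
    (G.left.openCoverOfIsOpenCover _ hcov)).2 fun W => W.2

end Field

section Artin

variable {A : Type u} [CommRing A] [IsArtinianRing A] [IsLocalRing A]
  {G H : Over (Spec (CommRingCat.of A))} [GrpObj G] [GrpObj H] [LocallyOfFiniteType G.hom]
  [LocallyOfFiniteType H.hom] (u : G ⟶ H) [IsMonHom u]

/-- An open homomorphism over an artinian local ring is universally open. -/
theorem universallyOpen_of_isOpenMap (hu : IsOpenMap u.left) : UniversallyOpen u.left := by
  obtain ⟨_, _, _⟩ := bar_facts A
  haveI := lft_bc (A := A) G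
  haveI := lft_bc (A := A) H
  let u' := (Over.pullback (Bar A).hom).map u
  have hsq := isPullback_bc_map u
  let fG := pullback.fst G.hom (Bar A).hom
  let fH := pullback.fst H.hom (Bar A).hom
  obtain ⟨W, hW, hmem, -⟩ := exists_isAffineOpen_mem_and_subset
    (x := η[G].left (IsLocalRing.closedPoint A)) (U := (⊤ : G.left.Opens)) trivial
  have h1 : UniversallyOpen u'.left := by
    refine universallyOpen_of_open_image u' (fG ⁻¹ᵁ W) ((hW.preimage fG).isCompact) ?_ ?_
    · obtain ⟨z, hz⟩ := fG.surjective (η[G].left (IsLocalRing.closedPoint A))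
      exact ⟨z, by show fG z ∈ W; rw [hz]; exact hmem⟩
    · have := Scheme.image_preimage_eq_of_isPullback hsq.flip (W : Set G.left)
      have h2 : IsOpen ((pullback.fst H.hom (Bar A).hom) ⁻¹' (u.left '' (W : Set G.left))) :=
        (hu _ W.2).preimage (pullback.fst H.hom (Bar A).hom).continuous
      exact Eq.mpr (congrArg IsOpen this) h2
  have : UniversallyOpen (pullback.snd u.left fH) := by
    rw [← hsq.flip.isoPullback_inv_snd]
    exact MorphismProperty.comp_mem _ _ _ inferInstance h1
  exact Groth.DescentBase.universallyOpen_of_surjective_universallyClosed u.left fH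

end Artin

end Groth.ArtinQuot
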