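import Groth.Agent.ArtinQuot.Cover
import Groth.Agent.AlgSp2.SchematicFinLocFree

/-!
Base changes of the quotient sheaf along schemes over the base, and translations acting on them.
-/

set_option autoImplicit false
set_option linter.style.haveILetI false
set_option backward.isDefEq.respectTransparency.types false

universe u

open CategoryTheory MonoidalCategory CartesianMonoidalCategory MonObj GrpObj AlgebraicGeometry
  CategoryTheory.Limits AlgSp Groth.AlgSpBasic

namespace Groth.ArtinQuot

variable {S : Scheme.{u}}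

/-- The product of a map from a scheme to a sheaf with a scheme over the base. -/
noncomputable def prodK {X : Sp S} {V : Over S} (f : (yon S).obj V ⟶ X) (K : Over S) :
    (yon S).obj (V ⊗ K) ⟶ X ⨯ (yon S).obj K :=
  prod.lift ((yon S).map (fst V K) ≫ f) ((yon S).map (snd V K))

theorem prodK_fst {X : Sp S} {V : Over S} (f : (yon S).obj V ⟶ X) (K : Over S) :
    prodK f K ≫ Limits.prod.fst = (yon S).map (fst V K) ≫ f := prod.lift_fst _ _

theorem prodK_snd {X : Sp S} {V : Over S} (f : (yon S).obj V ⟶ X) (K : Over S) :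
    prodK f K ≫ Limits.prod.snd = (yon S).map (snd V K) := prod.lift_snd _ _

theorem isPullback_prodK {X : Sp S} {V : Over S} (f : (yon S).obj V ⟶ X) (K : Over S) :
    IsPullback ((yon S).map (fst V K)) (prodK f K) f (Limits.prod.fst : X ⨯ (yon S).obj K ⟶ X) := by
  refine isPullback_of_lifts (prodK_fst f K).symm (fun T b c hbc => ?_) (fun T a a' h₁ h₂ => ?_)
  · obtain ⟨b, rfl⟩ := (yon S).map_surjective b
    obtain ⟨ψ, hψ⟩ := (yon S).map_surjective (c ≫ Limits.prod.snd)
    refine ⟨(yon S).map (lift b ψ), by rw [← Functor.map_comp, lift_fst], ?_⟩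
    refine Limits.prod.hom_ext ?_ ?_
    · rw [Category.assoc, prodK_fst, ← Category.assoc, ← Functor.map_comp, lift_fst, hbc]
    · rw [Category.assoc, prodK_snd, ← Functor.map_comp, lift_snd, hψ]
  · obtain ⟨a, rfl⟩ := (yon S).map_surjective a
    obtain ⟨a', rfl⟩ := (yon S).map_surjective a'
    congr 1
    apply CartesianMonoidalCategory.hom_ext
    · exact (yon S).map_injective (by rw [Functor.map_comp, Functor.map_comp]; exact h₁)
    · refine (yon S).map_injective ?_
      have := h₂ =≫ Limits.prod.snd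
      rwa [Category.assoc, Category.assoc, prodK_snd, ← Functor.map_comp, ← Functor.map_comp] at this

/-- A morphism of schemes over the base acts on products with a sheaf. -/
noncomputable def mapK (X : Sp S) {K K' : Over S} (q : K ⟶ K') :
    X ⨯ (yon S).obj K ⟶ X ⨯ (yon S).obj K' :=
  prod.map (𝟙 X) ((yon S).map q)

theorem prodK_mapK {X : Sp S} {V K K' : Over S} (f : (yon S).obj V ⟶ X) (q : K ⟶ K') :
    prodK f K ≫ mapK X q = (yon S).map (V ◁ q) ≫ prodK f K' := by
  refine Limits.prod.hom_ext ?_ ?_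
  · rw [Category.assoc, Category.assoc, mapK, prod.map_fst, Category.comp_id, prodK_fst, prodK_fst,
      ← Category.assoc, ← Functor.map_comp, whiskerLeft_fst]
  · rw [Category.assoc, Category.assoc, mapK, prod.map_snd, ← Category.assoc, prodK_snd, prodK_snd,
      ← Functor.map_comp, ← Functor.map_comp, whiskerLeft_snd]

theorem isPullback_mapK {X : Sp S} {V K K' : Over S} (f : (yon S).obj V ⟶ X) (q : K ⟶ K') :
    IsPullback ((yon S).map (V ◁ q)) (prodK f K) (prodK f K') (mapK X q) := by
  refine IsPullback.of_right ?_ (prodK_mapK f q).symm (isPullback_prodK f K')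
  rw [← Functor.map_comp, whiskerLeft_fst, mapK, prod.map_fst, Category.comp_id]
  exact isPullback_prodK f K

theorem isPullback_mapK_snd (X : Sp S) {K K' : Over S} (q : K ⟶ K') :
    IsPullback (Limits.prod.snd : X ⨯ (yon S).obj K ⟶ _) (mapK X q) ((yon S).map q)
      (Limits.prod.snd : X ⨯ (yon S).obj K' ⟶ _) := by
  refine isPullback_of_lifts (by rw [mapK, prod.map_snd]) (fun T b c hbc => ?_)
    (fun T a a' h₁ h₂ => ?_)
  · refine ⟨prod.lift (c ≫ Limits.prod.fst) b, prod.lift_snd _ _, ?_⟩
    refine Limits.prod.hom_ext ?_ ?_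
    · rw [Category.assoc, mapK, prod.map_fst, Category.comp_id, prod.lift_fst]
    · rw [Category.assoc, mapK, prod.map_snd, ← Category.assoc, prod.lift_snd, hbc]
  · refine Limits.prod.hom_ext ?_ h₁
    have := h₂ =≫ Limits.prod.fst
    simpa [mapK] using this

theorem repWith_mapK (X : Sp S) {K K' : Over S} (q : K ⟶ K') (P : MorphismProperty Scheme.{u})
    [P.IsStableUnderBaseChange] (hq : P q.left) : RepWith P (mapK X q) :=
  repWith_of_isPullback (isPullback_mapK_snd X q) ((repWith_yon_map_iff _ q).2 hq)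

section

variable {F G : Over S} [GrpObj F] [GrpObj G] (u : F ⟶ G) [IsMonHom u] {X : Sp S}
  {π : (yon S).obj G ⟶ X} (sq : IsPullback ((yon S).map (trl u)) ((yon S).map (snd F G)) π π)

include sq in
omit [GrpObj F] [IsMonHom u] in
theorem comp_π_eq_iff {T : Over S} (a b : T ⟶ G) :
    (yon S).map a ≫ π = (yon S).map b ≫ π ↔ ∃ x : T ⟶ F, (x ≫ u) * b = a := by
  rw [← rel_iff u]
  constructor
  · intro h
    obtain ⟨r, hr⟩ := (yon S).map_surjective (sq.lift _ _ h)
    refine ⟨r, (yon S).map_injective ?_, (yon S).map_injective ?_⟩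
    · rw [Functor.map_comp, hr, sq.lift_fst]
    · rw [Functor.map_comp, hr, sq.lift_snd]
  · rintro ⟨r, rfl, rfl⟩
    rw [Functor.map_comp, Functor.map_comp, Category.assoc, Category.assoc, sq.w]

/-- Right translation by a point with values in `K`. -/
noncomputable def tr {K : Over S} (h : K ⟶ G) : G ⊗ K ⟶ G ⊗ K :=
  lift (fst G K * (snd G K ≫ h)) (snd G K)

theorem comp_tr_fst {T K : Over S} (h : K ⟶ G) (a : T ⟶ G ⊗ K) :
    a ≫ tr h ≫ fst G K = (a ≫ fst G K) * (a ≫ snd G K ≫ h) := by
  rw [tr, lift_fst, MonObj.comp_mul]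

theorem tr_snd {K : Over S} (h : K ⟶ G) : tr h ≫ snd G K = snd G K := lift_snd _ _

theorem tr_inv {K : Over S} (h : K ⟶ G) : tr h ≫ tr h⁻¹ = 𝟙 _ := by
  apply CartesianMonoidalCategory.hom_ext
  · rw [Category.assoc, comp_tr_fst, ← Category.assoc (tr h), tr_snd, GrpObj.comp_inv, tr, lift_fst,
      mul_inv_cancel_right, Category.id_comp]
  · rw [Category.assoc, tr_snd, tr_snd, Category.id_comp]

include sq in
omit [GrpObj F] [IsMonHom u] in
theorem tr_compat {T K : Over S} (h : K ⟶ G) (a b : T ⟶ G ⊗ K)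
    (e : (yon S).map a ≫ prodK π K = (yon S).map b ≫ prodK π K) :
    (yon S).map (a ≫ tr h) ≫ prodK π K = (yon S).map (b ≫ tr h) ≫ prodK π K := by
  have e₁ := e =≫ Limits.prod.fst
  have e₂ := e =≫ Limits.prod.snd
  rw [Category.assoc, Category.assoc, prodK_fst, ← Category.assoc, ← Category.assoc,
    ← Functor.map_comp, ← Functor.map_comp, comp_π_eq_iff u sq] at e₁
  rw [Category.assoc, Category.assoc, prodK_snd, ← Functor.map_comp, ← Functor.map_comp] at e₂
  have e₂' := (yon S).map_injective e₂
  refine Limits.prod.hom_ext ?_ ?_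
  · rw [Category.assoc, Category.assoc, prodK_fst, ← Category.assoc, ← Category.assoc,
      ← Functor.map_comp, ← Functor.map_comp, comp_π_eq_iff u sq]
    obtain ⟨x, hx⟩ := e₁
    refine ⟨x, ?_⟩
    rw [Category.assoc, Category.assoc, comp_tr_fst, comp_tr_fst, ← hx, ← Category.assoc a,
      ← Category.assoc b, e₂', _root_.mul_assoc]
  · rw [Category.assoc, Category.assoc, prodK_snd, ← Functor.map_comp, ← Functor.map_comp,
      Category.assoc, Category.assoc, tr_snd, e₂']

include sq in
omit [GrpObj F] [IsMonHom u] in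
/-- Translations descend to the quotient. -/
theorem exists_translation [Sheaf.IsLocallySurjective π] (hπ : Representable π) {K : Over S}
    (h : K ⟶ G) : ∃ σ : X ⨯ (yon S).obj K ≅ X ⨯ (yon S).obj K,
      prodK π K ≫ σ.hom = (yon S).map (tr h) ≫ prodK π K := by
  have sqK := isPullback_prodK π K
  haveI : Sheaf.IsLocallySurjective (prodK π K) := isLocallySurjective_of_isPullback sqK
  have hrep : Representable (prodK π K) := MorphismProperty.of_isPullback sqK hπ
  obtain ⟨R, t, s, sqR⟩ := exists_pullback_yon hrep (prodK π K)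
  obtain ⟨hcol⟩ := isColimit_of_isLocallySurjective sqR
  have hdesc : ∀ g : K ⟶ G, ∃ σ : X ⨯ (yon S).obj K ⟶ X ⨯ (yon S).obj K,
      prodK π K ≫ σ = (yon S).map (tr g) ≫ prodK π K := fun g => by
    obtain ⟨d, hd⟩ := Cofork.IsColimit.desc' hcol ((yon S).map (tr g) ≫ prodK π K) (by
      rw [← Category.assoc, ← Category.assoc, ← Functor.map_comp, ← Functor.map_comp]
      exact tr_compat u sq g t s sqR.w)
    exact ⟨d, hd⟩
  have : Epi (prodK π K) := inferInstance
  obtain ⟨σ, hσ⟩ := hdesc h
  obtain ⟨σ', hσ'⟩ := hdesc h⁻¹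
  refine ⟨⟨σ, σ', ?_, ?_⟩, hσ⟩
  · rw [← cancel_epi (prodK π K), ← Category.assoc, hσ, Category.assoc, hσ', ← Category.assoc,
      ← Functor.map_comp, tr_inv, CategoryTheory.Functor.map_id, Category.id_comp, Category.comp_id]
  · rw [← cancel_epi (prodK π K), ← Category.assoc, hσ', Category.assoc, hσ, ← Category.assoc,
      ← Functor.map_comp]
    have := tr_inv h⁻¹
    rw [_root_.inv_inv] at this
    rw [this, CategoryTheory.Functor.map_id, Category.id_comp, Category.comp_id]

end

end Groth.ArtinQuot
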